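import Mathlib
import Cfsg.Agent.H899.O7.Upper
import Cfsg.Agent.H899.O7.Mat
import Cfsg.Agent.H899.O7.Sp
import Cfsg.Agent.LieClassical.OmegaCenter

/-!
# The element orders of `Ω₇(3)` and `PΩ₈⁺(3)` (helper899)
-/

set_option autoImplicit false
set_option linter.unusedSectionVars false
set_option maxRecDepth 100000

namespace Cfsg.Agent.H899.O7.Spec

open QuadraticMap Module Matrix
open Cfsg.Agent.LieClassical.OrthCore Cfsg.Agent.LieClassical.OrthFinite Cfsg.Agent.LieClassical.OrthForms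
  Cfsg.Agent.H160.QSpin Cfsg.Agent.H160.QDisc Cfsg.Agent.H160.QSplit Cfsg.Agent.H160.QReal Cfsg.Agent.H160.QModel
  Cfsg.Agent.H160.QFinal Cfsg.Agent.H160.QSemi
open Cfsg.Agent.H899.O7.PolyList (R exps)
open Cfsg.Agent.H899.O7.Mat

abbrev L7 := Cfsg.POmega R (Cfsg.quadFormOdd 3 R)
abbrev L8 := Cfsg.POmega R (Cfsg.quadFormPlus 4 R)

theorem two_ne : (2 : R) ≠ 0 := by decide

/-! ### Realisable orders in dimension seven -/

theorem pm (s : ℤˣ) : s ^ 2 = 1 := by rw [pow_two]; exact Int.units_mul_self s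

theorem d_eq {c d : ℤ} (hc : c = 1 ∨ c = -1) (hd : d = 1 ∨ d = -1) : (c * d = 1 ∨ c * d = -1) ∧ c * (c * d) = d := by
  rcases hc with rfl | rfl <;> rcases hd with rfl | rfl <;> simp

/-- complete by an identity -/
theorem complete {n m N : ℕ} {c d : ℤ} (hc : c = 1 ∨ c = -1) (hd : d = 1 ∨ d = -1) (h : Rz R n c 1 N) (hm : m ≠ 0) :
    Rz R (n + m) d 1 N := by
  have h1 := h.add two_ne (rz_one two_ne hm (d_eq hc hd).1)
  rwa [(d_eq hc hd).2, mul_one, Nat.lcm_one_right] at h1

instance : CharP R 3 := ZMod.charP 3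

theorem qc_pm : quadraticChar R (-1) = 1 ∨ quadraticChar R (-1) = -1 :=
  quadraticChar_dichotomy (by decide)

theorem qc_pow_pm (k : ℕ) : quadraticChar R (-1) ^ k = 1 ∨ quadraticChar R (-1) ^ k = -1 := by
  rcases qc_pm with h | h
  · rw [h, one_pow]; exact Or.inl rfl
  · rw [h]; exact neg_one_pow_eq_or ℤ k

theorem mul_pm {c d : ℤ} (hc : c = 1 ∨ c = -1) (hd : d = 1 ∨ d = -1) : c * d = 1 ∨ c * d = -1 := (d_eq hc hd).1

theorem cardR : Fintype.card R = 3 := ZMod.card 3

section Rzs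

variable {d : ℤ} (hd : d = 1 ∨ d = -1)

include hd

theorem rz13 : Rz R 7 d 1 13 := by
  obtain ⟨s, hs⟩ := rz_split (F := R) (d := 3) (by norm_num)
  rw [cardR] at hs
  have h1 := hs.pow (M := 13) (by norm_num) (by norm_num)
  rw [show (3 ^ 3 - 1) / 13 = 2 by norm_num, pm] at h1
  exact complete (n := 6) (m := 1) (qc_pow_pm 3) hd h1 (by norm_num)

theorem rz14 : Rz R 7 d 1 14 := by
  obtain ⟨c, s, hc, -, hs⟩ := rz_nonsplit (F := R) two_ne (d := 3) (by norm_num)
  rw [cardR] at hs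
  have h1 := hs.pow (M := 14) (by norm_num) (by norm_num)
  rw [show (3 ^ 3 + 1) / 14 = 2 by norm_num, pm] at h1
  exact complete (n := 6) (m := 1) hc hd h1 (by norm_num)

theorem rz15 : Rz R 7 d 1 15 := by
  obtain ⟨c, s, hc, -, hs⟩ := rz_nonsplit (F := R) two_ne (d := 2) (by norm_num)
  rw [cardR] at hs
  have h1 := hs.pow (M := 5) (by norm_num) (by norm_num)
  rw [show (3 ^ 2 + 1) / 5 = 2 by norm_num, pm] at h1
  have h2 := h1.add two_ne (rz_jordan (F := R) (p := 3) two_ne (n := 3) (a := 0) (by decide) (by norm_num) (d_eq hc hd).1)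
  rw [(d_eq hc hd).2] at h2
  exact h2

theorem rz18 : Rz R 7 d 1 18 := by
  have h1 := rz_neg (F := R) two_ne 1
  have hc : ((1 : ℤˣ) : ℤ) = 1 ∨ ((1 : ℤˣ) : ℤ) = -1 := Or.inl rfl
  have h2 := h1.add two_ne (rz_jordan (F := R) (p := 3) two_ne (n := 5) (a := 1) (by decide) (by norm_num) (d_eq hc hd).1)
  rw [(d_eq hc hd).2] at h2
  exact h2

theorem rz12 : Rz R 7 d 1 12 := by
  obtain ⟨c, s, hc, -, hs⟩ := rz_nonsplit (F := R) two_ne (d := 1) (by norm_num)
  rw [cardR] at hs
  have h1 := hs.add two_ne hs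
  have hc2 : c * c = 1 ∨ c * c = -1 := mul_pm hc hc
  have h2 := h1.add two_ne
    (rz_jordan (F := R) (p := 3) two_ne (n := 3) (a := 0) (by decide) (by norm_num) (d_eq hc2 hd).1)
  rw [(d_eq hc2 hd).2, ← pow_two s, pm] at h2
  exact h2

theorem rz8 : Rz R 7 d 1 8 := by
  obtain ⟨s, hs⟩ := rz_split (F := R) (d := 2) (by norm_num)
  rw [cardR] at hs
  obtain ⟨N, hN, h1⟩ := rz_plane (F := R) two_ne (d := 1) (Or.inl rfl) s
  have h2 := hs.add two_ne h1
  rw [← pow_two s, pm] at h2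
  have hc2 : quadraticChar R (-1) ^ 2 * 1 = 1 ∨ quadraticChar R (-1) ^ 2 * 1 = -1 :=
    mul_pm (qc_pow_pm 2) (Or.inl rfl)
  have h3 := complete (n := 6) (m := 1) hc2 hd h2 (by norm_num)
  exact h3.dvd (Nat.lcm_ne_zero (by norm_num) hN) (Nat.dvd_lcm_left _ _)

theorem rz20 : Rz R 7 d 1 20 := by
  have hnd : Nondeg sq7 := by
    intro x hx
    funext i
    have h1 := hx (Pi.single i 1)
    have h2 : polar sq7 x (Pi.single i 1) = 4 * x i := by
      simp only [polar, sq7_apply, dotProduct_add, add_dotProduct, dotProduct_single, single_dotProduct, Pi.add_apply]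
      ring
    rw [h2] at h1
    have h3 : (4 : R) ≠ 0 := by decide
    exact (mul_eq_zero.1 h1).resolve_left h3
  obtain ⟨c, hc0, hc⟩ : ∃ c : R, c ≠ 0 ∧ quadraticChar R c = d * dc sq7 := by
    rcases mul_pm hd (dc_cases hnd) with h | h
    · exact ⟨1, by decide, by rw [h]; decide⟩
    · exact ⟨2, by decide, by rw [h]; decide⟩
  have hndc : Nondeg (c • sq7) := by
    intro x hx
    apply hnd
    intro y
    have h1 := hx y
    have h2 : polar (c • sq7) x y = c * polar sq7 x y := by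
      simp only [polar, _root_.smul_apply, smul_eq_mul]; ring
    rw [h2] at h1
    exact (mul_eq_zero.1 h1).resolve_left hc0
  have hO : ∀ {g : GL (Fin 7) R}, (g : Matrix (Fin 7) (Fin 7) R)ᵀ * (g : Matrix (Fin 7) (Fin 7) R) = 1 →
      T g ∈ O (c • sq7) := by
    intro g hg v
    rw [_root_.smul_apply, _root_.smul_apply, mem_O.1 (mem_sq7 hg)]
  have ha : T a20 ∈ O (c • sq7) := hO (by show A20ᵀ * A20 = 1; decide +kernel)
  have hb : T b20 ∈ O (c • sq7) := hO (by show B20ᵀ * B20 = 1; decide +kernel)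
  have hEl := El.comm ha hb
  rw [← map_inv, ← map_inv, ← map_mul, ← map_mul, ← map_mul] at hEl
  have h3 := Rz.of hndc hEl (n := 7) (by simp)
  rw [MulEquiv.orderOf_eq, orderOf_g20, dc_smul, hc] at h3
  have h4 : (d * dc sq7) ^ finrank R (Fin 7 → R) * dc sq7 = d := by
    rw [finrank_fintype_fun_eq_card, Fintype.card_fin]
    rcases dc_cases hnd with h | h <;> rw [h] <;> rcases hd with rfl | rfl <;> norm_num
  rwa [h4] at h3

theorem rz_all {m : ℕ} (hm : m ∈ exps) : Rz R 7 d 1 m := by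
  simp only [exps, List.mem_cons, List.not_mem_nil, or_false] at hm
  rcases hm with rfl | rfl | rfl | rfl | rfl | rfl | rfl
  · exact rz8 hd
  · exact rz12 hd
  · exact rz13 hd
  · exact rz14 hd
  · exact rz15 hd
  · exact rz18 hd
  · exact rz20 hd

end Rzs

/-! ### The projection onto `POmega` -/

section Proj

/-- the isometries of determinant one and spinor sign one -/
def Ome {V : Type*} [AddCommGroup V] [Module R V] [Finite V] (Q : QuadraticForm R V) : Subgroup (V ≃ₗ[R] V) where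
  carrier := {h | El Q 1 h}
  one_mem' := El.one Q
  mul_mem' {a b} ha hb := by
    have := El.mul ha hb
    rwa [one_mul] at this
  inv_mem' {a} ha := by
    obtain ⟨h1, h3, h4⟩ := ha
    refine ⟨(O Q).inv_mem h1, by rw [map_inv, h3, inv_one], ?_⟩
    have e : (⟨a⁻¹, (O Q).inv_mem h1⟩ : O Q) = ⟨a, h1⟩⁻¹ := rfl
    rw [e, map_inv, h4, inv_one]

theorem mem_Ome {V : Type*} [AddCommGroup V] [Module R V] [Finite V] {Q : QuadraticForm R V} {h : V ≃ₗ[R] V} :
    h ∈ Ome Q ↔ El Q 1 h := Iff.rfl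

variable {ι : Type} [Fintype ι] [DecidableEq ι] {Q : QuadraticForm R (ι → R)}

variable (hQ : Nondeg Q) (hd : 5 ≤ Fintype.card ι)

include hQ hd

theorem range_lin : (lin Q).range = Ome Q := by
  ext h
  constructor
  · rintro ⟨x, rfl⟩
    exact el_lin two_ne hQ hd x
  · intro hh
    exact exists_lin two_ne hQ hd hh

/-- `Omega` as a group of linear automorphisms -/
noncomputable def omE : Cfsg.Omega R ⇑Q ≃* Ome Q :=
  (MonoidHom.ofInjective (lin_injective Q)).trans (MulEquiv.subgroupCongr (range_lin hQ hd))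

theorem omE_apply (x : Cfsg.Omega R ⇑Q) : ((omE hQ hd x : Ome Q) : (ι → R) ≃ₗ[R] (ι → R)) = lin Q x := rfl

/-- the projection -/
noncomputable def toP : Ome Q →* Cfsg.POmega R ⇑Q :=
  (QuotientGroup.mk' (Subgroup.center (Cfsg.Omega R ⇑Q))).comp (omE hQ hd).symm.toMonoidHom

theorem toP_surj : Function.Surjective (toP hQ hd) :=
  (QuotientGroup.mk'_surjective _).comp (omE hQ hd).symm.surjective

theorem toP_eq_one_iff (hs : ∃ u : ι → R, u ≠ 0 ∧ Q u = 0) (h : Ome Q) :
    toP hQ hd h = 1 ↔ h = 1 ∨ (h : (ι → R) ≃ₗ[R] (ι → R)) = LinearEquiv.neg R := by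
  obtain ⟨x, rfl⟩ := (omE hQ hd).surjective h
  have h1 : toP hQ hd (omE hQ hd x) = QuotientGroup.mk' _ x := by
    rw [toP, MonoidHom.comp_apply]
    congr 1
    exact (omE hQ hd).symm_apply_apply x
  rw [h1, QuotientGroup.mk'_apply, QuotientGroup.eq_one_iff,
    Cfsg.Agent.LieClassical.OmegaCenter.mem_center_omega_iff Q (nondeg_bilin hQ) (by omega) hs]
  constructor
  · rintro (h | h)
    · left
      have h2 : x = 1 := Cfsg.Agent.LieClassical.OmegaCenter.omega_ext h
      rw [h2]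
      exact map_one _
    · right
      rw [omE_apply]
      ext1 v
      show Cfsg.Agent.LieClassical.OmegaCenter.omegaMat x *ᵥ v = -v
      rw [h, neg_mulVec, one_mulVec]
  · rintro (h | h)
    · left
      rw [(omE hQ hd).map_eq_one_iff] at h
      rw [h]; rfl
    · right
      rw [omE_apply] at h
      apply Matrix.toLin'.injective
      apply LinearMap.ext
      intro v
      have h2 := LinearEquiv.congr_fun h v
      rw [Matrix.toLin'_apply, Matrix.toLin'_apply, neg_mulVec, one_mulVec]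
      exact h2

end Proj

/-! ### The two spectra -/

abbrev Q7 : QuadraticForm R (Unit ⊕ (Fin 3 ⊕ Fin 3) → R) := oddForm 3 R
abbrev Q8 : QuadraticForm R (Fin 4 ⊕ Fin 4 → R) := plusForm 4 R

theorem hQ7 : Nondeg Q7 := nondeg_oddForm 3 R two_ne
theorem hQ8 : Nondeg Q8 := nondeg_plusForm 4 R

theorem dc8 : dc Q8 = 1 := by
  let e : ((Fin 4 → R) × (Fin 4 → R)) ≃ₗ[R] (Fin 4 ⊕ Fin 4 → R) :=
    (LinearEquiv.sumArrowLequivProdArrow (Fin 4) (Fin 4) R R).symm
  have he : IsIso (hyp R 4) Q8 e := by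
    rintro ⟨x, y⟩
    rw [Q8, coe_plusForm, quadFormPlus_apply, hyp_apply]
    rfl
  rw [dc_iso he, dc_hyp]
  rcases qc_pm with h | h <;> rw [h] <;> norm_num

theorem pow_of_en {V : Type*} [AddCommGroup V] [Module R V] {g : V ≃ₗ[R] V} {m : ℕ} (h : en g ^ m = 1) :
    g ^ m = 1 := by
  apply en_inj
  rw [en_pow, h]
  rfl

theorem exp_ne {m : ℕ} (hm : m ∈ exps) : m ≠ 0 := by
  rintro rfl
  revert hm
  decide

theorem range_Q7 : Set.range (orderOf : Cfsg.POmega R ⇑Q7 → ℕ) = Om := by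
  ext N
  rw [range_POmega two_ne hQ7 (by simp) (by simp; decide)]
  constructor
  · rintro ⟨g, hg, rfl⟩
    obtain ⟨c, hc0, hc⟩ := exists_oneF (F := R) two_ne (dc_cases hQ7)
    have h1 := El.pr two_ne hQ7 (nondeg_oneF two_ne hc0) hg (El.one (oneF c))
    rw [one_mul] at h1
    have h2 : dc (Q7.prod (oneF c)) = 1 := by
      rw [dc_prod, hc]
      rcases dc_cases hQ7 with h | h <;> rw [h] <;> norm_num
    obtain ⟨m, hm, h3⟩ := Upper.upper (nondeg_prod hQ7 (nondeg_oneF two_ne hc0)) (by simp) h2 h1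
    refine ⟨m, hm, ?_⟩
    rw [orderOf_dvd_iff_pow_eq_one]
    have key : ∀ x : (Unit ⊕ (Fin 3 ⊕ Fin 3) → R) × R,
        (en (pr g (1 : R ≃ₗ[R] R)) ^ m) x = ((g ^ m) x.1, x.2) := by
      intro x
      rw [← en_pow, pr_pow, one_pow]
      rfl
    rcases h3 with h3 | h3
    · apply LinearEquiv.ext
      intro x
      have h4 := key (x, 0)
      rw [h3] at h4
      exact (congrArg Prod.fst h4).symm
    · exfalso
      have h4 := key (0, 1)
      rw [h3] at h4
      have h5 := congrArg Prod.snd h4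
      revert h5
      show ¬ (-(1 : R) = 1)
      decide
  · rintro ⟨m, hm, h⟩
    exact transport_rz two_ne hQ7 (by simp) ((rz_all (dc_cases hQ7) hm).dvd (exp_ne hm) h)

theorem range_L7 : Set.range (orderOf : L7 → ℕ) = Om := by
  have h := range_Q7
  rw [coe_oddForm] at h
  exact h

theorem sing8 : ∃ u : Fin 4 ⊕ Fin 4 → R, u ≠ 0 ∧ Q8 u = 0 := by
  refine ⟨Pi.single (Sum.inl 0) 1, ?_, ?_⟩
  · intro h
    have := congrFun h (Sum.inl 0)
    rw [Pi.single_eq_same] at this
    exact absurd this (by decide)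
  · rw [Q8, coe_plusForm, quadFormPlus_apply]
    apply Finset.sum_eq_zero
    intro i _
    rw [Pi.single_eq_of_ne (i := Sum.inl 0) (i' := Sum.inr i) (by simp), mul_zero]

theorem range_Q8 : Set.range (orderOf : Cfsg.POmega R ⇑Q8 → ℕ) = Om := by
  ext N
  constructor
  · rintro ⟨x, rfl⟩
    obtain ⟨h, rfl⟩ := toP_surj hQ8 (by simp) x
    obtain ⟨m, hm, h3⟩ := Upper.upper hQ8 (by simp) dc8 (mem_Ome.1 h.2)
    refine ⟨m, hm, ?_⟩
    rw [orderOf_dvd_iff_pow_eq_one, ← map_pow, toP_eq_one_iff hQ8 (by simp) sing8]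
    rcases h3 with h3 | h3
    · left
      exact Subtype.ext (pow_of_en h3)
    · right
      apply en_inj
      rw [Subgroup.coe_pow, en_pow, h3]
      rfl
  · rintro ⟨m, hm, h⟩
    obtain ⟨Q', g', hQ', hd, hEl, hord⟩ := (rz_all (d := 1) (Or.inl rfl) hm).dvd (exp_ne hm) h
    obtain ⟨c, hc0, hc⟩ := exists_oneF (F := R) two_ne (d := 1) (Or.inl rfl)
    have h1 := El.pr two_ne hQ' (nondeg_oneF two_ne hc0) hEl (El.one (oneF c))
    rw [one_mul] at h1
    obtain ⟨e, he⟩ := exists_iso two_ne (nondeg_prod hQ' (nondeg_oneF two_ne hc0)) hQ8 (by simp)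
      (by rw [dc_prod, hc, hd, dc8, mul_one])
    let y : Ome Q8 := ⟨cj e (pr g' 1), h1.cj he⟩
    refine ⟨toP hQ8 (by simp) y, ?_⟩
    rw [← hord]
    have key : ∀ k : ℕ, toP hQ8 (by simp) y ^ k = 1 ↔ g' ^ k = 1 := by
      intro k
      rw [← map_pow, toP_eq_one_iff hQ8 (by simp) sing8]
      have e1 : ((y ^ k : Ome Q8) : (Fin 4 ⊕ Fin 4 → R) ≃ₗ[R] (Fin 4 ⊕ Fin 4 → R)) =
          cj e (pr (g' ^ k) 1) := by
        rw [Subgroup.coe_pow, ← cj_pow, pr_pow, one_pow]
      constructor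
      · rintro (h5 | h5)
        · have h6 := congrArg Subtype.val h5
          rw [e1] at h6
          apply LinearEquiv.ext
          intro x
          have h7 := LinearEquiv.congr_fun h6 (e (x, 0))
          rw [cj_apply'] at h7
          have h8 : pr (g' ^ k) (1 : R ≃ₗ[R] R) (x, 0) = (x, 0) := e.injective h7
          exact congrArg Prod.fst h8
        · exfalso
          rw [e1] at h5
          have h7 := LinearEquiv.congr_fun h5 (e (0, 1))
          rw [cj_apply', LinearEquiv.neg_apply, ← map_neg] at h7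
          have h8 := congrArg Prod.snd (e.injective h7)
          revert h8
          show ¬ ((1 : R) = -1)
          decide
      · intro h5
        left
        apply Subtype.ext
        rw [e1, h5, pr_one, cj_one]
        rfl
    apply Nat.dvd_antisymm
    · rw [orderOf_dvd_iff_pow_eq_one, key, pow_orderOf_eq_one]
    · rw [orderOf_dvd_iff_pow_eq_one, ← key, pow_orderOf_eq_one]

theorem range_L8 : Set.range (orderOf : L8 → ℕ) = Om := by
  have h := range_Q8
  rw [coe_plusForm] at h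
  exact h

end Cfsg.Agent.H899.O7.Spec
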