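import Cfsg.Agent.H407.Arith

/-!
# Simple groups with prime divisors 2, 3, 5, 7, 13 (helper899)

The enumeration of the known simple groups with all prime divisors at most 13 of helper407, with their isomorphism
types.
-/

set_option autoImplicit false
set_option maxRecDepth 100000

namespace Cfsg.Agent.H899.O7.Arith

open Cfsg Cfsg.Agent.OrdDiv Cfsg.Agent.H388.FinSimple
open Cfsg.Agent.H407.Arith (Sm smB smB_of pars mem_pars)

universe u

/-- the families with their names -/
def gfams : List (Fam × (ℕ → ℕ → Grp)) :=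
  [(fPSL, Grp.psl), (fPSp, Grp.psp), (fPSU, Grp.psu), (fOOdd, Grp.oodd), (fOPlus, Grp.oplus), (fOMinus, Grp.ominus),
    (fG2, fun _ q => Grp.g2 q), (fF4, fun _ q => Grp.f4 q), (fE6, fun _ q => Grp.e6 q), (fE7, fun _ q => Grp.e7 q),
    (fE8, fun _ q => Grp.e8 q), (fTE6, fun _ q => Grp.te6 q), (fTD4, fun _ q => Grp.td4 q), (fSz, fun _ q => Grp.sz q),
    (fRee, fun _ q => Grp.ree q), (fTF4, fun _ q => Grp.tf4 q)]

theorem gfams_fams {X : Fam × (ℕ → ℕ → Grp)} (h : X ∈ gfams) : X.1 ∈ fams := by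
  have h1 : X.1 ∈ gfams.map Prod.fst := List.mem_map_of_mem h
  exact h1

/-- **The orders of the known simple groups, with the isomorphism types of the groups of Lie type.** -/
theorem known_cases (T : OrderTable.{u}) {S : Type u} [Group S] (h : IsKnownSimple' S)
    (hna : ¬ ∀ a b : S, a * b = b * a) :
    (∃ n : ℕ, 5 ≤ n ∧ 2 * Nat.card S = n.factorial) ∨ (∃ x ∈ spor, Nat.card S = x.2) ∨
      ∃ X ∈ gfams, ∃ n q, Mem X.1 n q (Nat.card S) ∧ Real (X.2 n q) S := by
  have key : ∀ (g : Grp), g ∈ spor.map (fun x => x.1) → Real g S → ∃ x ∈ spor, Nat.card S = x.2 := fun g hg hr => by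
    obtain ⟨x, hx, rfl⟩ := List.mem_map.1 hg
    exact ⟨x, hx, T.spor S x hx hr⟩
  rcases h with h | h | h | h | h | h | h | h | h | h
  · exfalso
    have : Fact (Nat.card S).Prime := ⟨h⟩
    have : IsCyclic S := isCyclic_of_prime_card (p := Nat.card S) rfl
    exact hna fun a b => (IsCyclic.isMulCommutative (α := S)).is_comm.comm a b
  · obtain ⟨n, hn, ⟨e⟩⟩ := h
    exact Or.inl ⟨n, hn, (alt_card hn e).symm⟩
  · obtain ⟨F, _, _, n, hn, hn2, ⟨e⟩⟩ := h
    exact Or.inr (Or.inr ⟨(fPSL, Grp.psl), by simp [gfams], n, _, by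
      rw [Nat.card_congr e.toEquiv]; exact psl_mem (F := F) hn, F, inferInstance, inferInstance, rfl, ⟨e⟩⟩)
  · obtain ⟨F, _, _, n, hn, hn2, ⟨e⟩⟩ := h
    exact Or.inr (Or.inr ⟨(fPSp, Grp.psp), by simp [gfams], n, _, by
      rw [Nat.card_congr e.toEquiv]; exact psp_mem (F := F) hn, F, inferInstance, inferInstance, rfl, ⟨e⟩⟩)
  · obtain ⟨F, _, _, n, q, hF, hn, hn2, ⟨e⟩⟩ := h
    exact Or.inr (Or.inr ⟨(fPSU, Grp.psu), by simp [gfams], n, _, by
      rw [Nat.card_congr e.toEquiv]; exact psu_mem hF hn, F, inferInstance, inferInstance, hF, ⟨e⟩⟩)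
  · obtain ⟨F, _, _, n, hn, ho, ⟨e⟩⟩ := h
    exact Or.inr (Or.inr ⟨(fOOdd, Grp.oodd), by simp [gfams], n, _, by
      rw [Nat.card_congr e.toEquiv]; exact oodd_mem hn ho, F, inferInstance, inferInstance, rfl, ⟨e⟩⟩)
  · obtain ⟨F, _, _, n, hn, ⟨e⟩⟩ := h
    exact Or.inr (Or.inr ⟨(fOPlus, Grp.oplus), by simp [gfams], n, _, by
      rw [Nat.card_congr e.toEquiv]; exact oplus_mem hn, F, inferInstance, inferInstance, rfl, ⟨e⟩⟩)
  · obtain ⟨F, _, _, n, a, b, hn, hab, ⟨e⟩⟩ := h
    exact Or.inr (Or.inr ⟨(fOMinus, Grp.ominus), by simp [gfams], n, _, by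
      rw [Nat.card_congr e.toEquiv]; exact ominus_mem hn hab, F, inferInstance, inferInstance, a, b, rfl, hab, ⟨e⟩⟩)
  · rcases h with h | h | h | h | h | h | h | h | h | h | h
    · obtain ⟨F, _, _, hq, ⟨e⟩⟩ := h
      refine Or.inr (Or.inr ⟨(fG2, fun _ q => Grp.g2 q), by simp [gfams], 0, Fintype.card F, ?_,
        F, inferInstance, inferInstance, rfl, ⟨e⟩⟩)
      rw [Nat.card_congr e.toEquiv]
      exact one_mem (by norm_num) Fintype.isPrimePow_card_of_field (by rw [T.g2 F]; ring) (Nat.coprime_one_left _)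
    · obtain ⟨F, _, _, ⟨e⟩⟩ := h
      refine Or.inr (Or.inr ⟨(fF4, fun _ q => Grp.f4 q), by simp [gfams], 0, Fintype.card F, ?_,
        F, inferInstance, inferInstance, rfl, ⟨e⟩⟩)
      rw [Nat.card_congr e.toEquiv]
      exact one_mem (by norm_num) Fintype.isPrimePow_card_of_field (by rw [T.f4 F _ rfl]; ring)
        (Nat.coprime_one_left _)
    · obtain ⟨F, _, _, ⟨e⟩⟩ := h
      refine Or.inr (Or.inr ⟨(fE6, fun _ q => Grp.e6 q), by simp [gfams], 0, Fintype.card F, ?_,
        F, inferInstance, inferInstance, rfl, ⟨e⟩⟩)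
      rw [Nat.card_congr e.toEquiv]
      have h0 := cop_sub (q := Fintype.card F) (k := 1) Fintype.card_pos le_rfl
      rw [pow_one] at h0
      exact one_mem (by norm_num) Fintype.isPrimePow_card_of_field (by rw [T.e6 F _ rfl]; ring)
        (Nat.Coprime.coprime_dvd_left (Nat.gcd_dvd_right _ _) h0)
    · obtain ⟨F, _, _, ⟨e⟩⟩ := h
      refine Or.inr (Or.inr ⟨(fE7, fun _ q => Grp.e7 q), by simp [gfams], 0, Fintype.card F, ?_,
        F, inferInstance, inferInstance, rfl, ⟨e⟩⟩)
      rw [Nat.card_congr e.toEquiv]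
      have h0 := cop_sub (q := Fintype.card F) (k := 1) Fintype.card_pos le_rfl
      rw [pow_one] at h0
      exact one_mem (by norm_num) Fintype.isPrimePow_card_of_field (by rw [T.e7 F _ rfl]; ring)
        (Nat.Coprime.coprime_dvd_left (Nat.gcd_dvd_right _ _) h0)
    · obtain ⟨F, _, _, ⟨e⟩⟩ := h
      refine Or.inr (Or.inr ⟨(fE8, fun _ q => Grp.e8 q), by simp [gfams], 0, Fintype.card F, ?_,
        F, inferInstance, inferInstance, rfl, ⟨e⟩⟩)
      rw [Nat.card_congr e.toEquiv]
      exact one_mem (by norm_num) Fintype.isPrimePow_card_of_field (by rw [T.e8 F _ rfl]; ring)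
        (Nat.coprime_one_left _)
    · obtain ⟨F, _, _, q, hq, hF, ⟨e⟩⟩ := h
      refine Or.inr (Or.inr ⟨(fTE6, fun _ q => Grp.te6 q), by simp [gfams], 0, q, ?_,
        F, inferInstance, inferInstance, hF, ⟨e⟩⟩)
      rw [Nat.card_congr e.toEquiv]
      have h0 := cop_add (q := q) (k := 1) le_rfl
      rw [pow_one] at h0
      exact one_mem (by norm_num) hq (by rw [T.te6 F q hq hF]; ring)
        (Nat.Coprime.coprime_dvd_left (Nat.gcd_dvd_right _ _) h0)
    · obtain ⟨F, _, _, q, hq, hF, ⟨e⟩⟩ := h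
      refine Or.inr (Or.inr ⟨(fTD4, fun _ q => Grp.td4 q), by simp [gfams], 0, q, ?_,
        F, inferInstance, inferInstance, hF, ⟨e⟩⟩)
      rw [Nat.card_congr e.toEquiv]
      exact one_mem (by norm_num) hq (by rw [T.td4 F q hq hF]; ring) (Nat.coprime_one_left _)
    · obtain ⟨F, _, _, m, hm, hF, ⟨e⟩⟩ := h
      refine Or.inr (Or.inr ⟨(fSz, fun _ q => Grp.sz q), by simp [gfams], 0, 2 ^ (2 * m + 1), ?_,
        F, inferInstance, inferInstance, m, hm, hF, rfl, ⟨e⟩⟩)
      rw [Nat.card_congr e.toEquiv]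
      exact one_mem (by norm_num) (Nat.prime_two.isPrimePow.pow (by omega)) (by rw [T.sz F m hm hF]; ring)
        (Nat.coprime_one_left _)
    · obtain ⟨F, _, _, m, hm, hF, ⟨e⟩⟩ := h
      refine Or.inr (Or.inr ⟨(fRee, fun _ q => Grp.ree q), by simp [gfams], 0, 3 ^ (2 * m + 1), ?_,
        F, inferInstance, inferInstance, m, hm, hF, rfl, ⟨e⟩⟩)
      rw [Nat.card_congr e.toEquiv]
      exact one_mem (by norm_num) (Nat.prime_three.isPrimePow.pow (by omega)) (by rw [T.ree F m hm hF]; ring)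
        (Nat.coprime_one_left _)
    · obtain ⟨F, _, _, m, hm, hF, ⟨e⟩⟩ := h
      refine Or.inr (Or.inr ⟨(fTF4, fun _ q => Grp.tf4 q), by simp [gfams], 0, 2 ^ (2 * m + 1), ?_,
        F, inferInstance, inferInstance, m, hm, hF, rfl, ⟨e⟩⟩)
      rw [Nat.card_congr e.toEquiv]
      exact one_mem (by norm_num) (Nat.prime_two.isPrimePow.pow (by omega)) (by rw [T.tf4 F m hm hF]; ring)
        (Nat.coprime_one_left _)
    · exact Or.inr (Or.inl (key .tits (by decide) h))
  · refine Or.inr (Or.inl ?_)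
    rcases h with h | h | h | h | h | h | h | h | h | h | h | h | h | h | h | h | h | h | h | h | h | h | h | h | h | h
    · exact key .m11 (by decide) h
    · exact key .m12 (by decide) h
    · exact key .m22 (by decide) h
    · exact key .m23 (by decide) h
    · exact key .m24 (by decide) h
    · exact key .j1 (by decide) h
    · exact key .j2 (by decide) h
    · exact key .j3 (by decide) h
    · exact key .j4 (by decide) h
    · exact key .co1 (by decide) h
    · exact key .co2 (by decide) h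
    · exact key .co3 (by decide) h
    · exact key .mcl (by decide) h
    · exact key .hs (by decide) h
    · exact key .suz (by decide) h
    · exact key .he (by decide) h
    · exact key .ru (by decide) h
    · exact key .on (by decide) h
    · exact key .ly (by decide) h
    · exact key .fi22 (by decide) h
    · exact key .fi23 (by decide) h
    · exact key .fi24 (by decide) h
    · exact key .hn (by decide) h
    · exact key .th (by decide) h
    · exact key .b (by decide) h
    · exact key .m (by decide) h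

/-- the test for the order of the member `(n, q)` of the family `D` -/
def bad (t : ℕ → Bool) (D : Fam) (n q : ℕ) : Bool :=
  t (D.num n q / D.den n q) && smB (D.num n q / D.den n q)

def parsOf (D : Fam) : List (ℕ × ℕ) :=
  if Nat.beq D.lo 0 then (pars 0).filter (fun x => Nat.beq x.1 0) else pars D.lo

def lst (t : ℕ → Bool) (D : Fam) : List (ℕ × ℕ) := (parsOf D).filter fun x => bad t D x.1 x.2

/-- the members of a family with smooth order and the property `t` -/
theorem fam_bad (t : ℕ → Bool) (D : Fam) (hD : Nice D) {n q c : ℕ} (hM : Mem D n q c) (h0 : D.lo = 0 → n = 0)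
    (hc0 : 0 < c) (hm : Sm c) (ht : t c = true) : (n, q) ∈ lst t D := by
  obtain ⟨hq, hn, hc, hqd, hcop⟩ := hM
  obtain ⟨p, f, hp, hf, rfl⟩ := hq
  rw [← Nat.prime_iff] at hp
  have hpc : p ∣ c := by
    have h1 : p ^ f ∣ D.den n (p ^ f) * c := by rw [hc]; exact hqd
    exact (dvd_pow_self p (by omega)).trans (hcop.symm.dvd_of_dvd_mul_left h1)
  have hpm := hm p hp hpc
  obtain ⟨k, hk, hnk, hr⟩ := hD n (p ^ f) hn
  have hfk : f * k ≤ 13 := by
    by_contra h
    obtain ⟨r, hr1, hr2⟩ := exists_prim (B := 13) hp hf hk (by norm_num) (not_le.1 h)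
    obtain ⟨h1, h2⟩ := hr r hr1
    rw [← hc] at h1
    have h3 := hm r hr1.1 (((hr1.1.dvd_mul).1 h1).resolve_left h2)
    omega
  have hden : 0 < D.den n (p ^ f) := by
    rcases Nat.eq_zero_or_pos (D.den n (p ^ f)) with h | h
    · rw [h, Nat.coprime_zero_left] at hcop
      have := Nat.one_lt_pow (by omega : f ≠ 0) hp.one_lt
      omega
    · exact h
  have hcd : D.num n (p ^ f) / D.den n (p ^ f) = c := Nat.div_eq_of_eq_mul_right hden hc.symm
  unfold lst
  rw [List.mem_filter]
  constructor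
  · have h1 : (n, p ^ f) ∈ pars D.lo := by
      refine mem_pars hp hpm hf hk hfk ?_ hn
      rcases hnk with h | h
      · rw [h0 h]; omega
      · exact h
    unfold parsOf
    split_ifs with h2
    · rw [Nat.beq_eq] at h2
      rw [List.mem_filter]
      refine ⟨h2 ▸ h1, ?_⟩
      rw [Nat.beq_eq]
      exact h0 h2
    · exact h1
  · change bad t D n (p ^ f) = true
    unfold bad
    rw [hcd, Bool.and_eq_true]
    exact ⟨ht, smB_of hc0.ne' hm⟩

theorem smB_false {c : ℕ} (h : smB c = false) (hc : c ≠ 0) : ¬ Sm c := by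
  intro h1
  rw [smB_of hc h1] at h
  exact absurd h (by decide)

/-- the general enumeration -/
theorem enum (t : ℕ → Bool) (T : OrderTable.{u}) {S : Type u} [Group S] [Finite S] (hS : IsKnownSimple' S)
    (hna : ¬ ∀ a b : S, a * b = b * a) (hm : Sm (Nat.card S)) (ht : t (Nat.card S) = true)
    (halt : ∀ n ∈ List.range 17, t (n.factorial / 2) = false) (hspor : ∀ x ∈ spor, (t x.2 && smB x.2) = false) :
    ∃ X ∈ gfams, ∃ n q, (n, q) ∈ lst t X.1 ∧ Real (X.2 n q) S := by
  have hc0 : 0 < Nat.card S := Nat.card_pos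
  rcases known_cases T hS hna with ⟨n, hn, hc⟩ | ⟨x, hx, hc⟩ | ⟨X, hX, n, q, hM, hR⟩
  · exfalso
    by_cases h17 : 17 ≤ n
    · have hp : (17 : ℕ).Prime := by norm_num
      have h2 : 17 ∣ 2 * Nat.card S := by
        rw [hc]
        exact (hp.dvd_factorial).2 h17
      have h3 : 17 ∣ Nat.card S := by
        rcases (hp.dvd_mul).1 h2 with h4 | h4
        · exact absurd h4 (by norm_num)
        · exact h4
      have := hm 17 hp h3
      omega
    · have h1 := halt n (List.mem_range.2 (by omega))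
      rw [← hc, Nat.mul_div_cancel_left _ (by norm_num), ht] at h1
      exact absurd h1 (by decide)
  · exfalso
    have h1 := hspor x hx
    rw [← hc, ht, smB_of hc0.ne' hm] at h1
    exact absurd h1 (by decide)
  · have hD := gfams_fams hX
    by_cases h0 : X.1.lo = 0
    · refine ⟨X, hX, 0, q, fam_bad t X.1 (nice_all X.1 hD) (mem_zero hD h0 hM) (fun _ => rfl) hc0 hm ht, ?_⟩
      have key : ∀ Y ∈ gfams, Y.1.lo = 0 → ∀ n q, Y.2 n q = Y.2 0 q := by
        intro Y hY hlo
        simp only [gfams, List.mem_cons, List.not_mem_nil, or_false] at hY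
        rcases hY with rfl | rfl | rfl | rfl | rfl | rfl | rfl | rfl | rfl | rfl | rfl | rfl | rfl | rfl | rfl | rfl <;>
          first
            | exact absurd hlo (by decide)
            | exact fun _ _ => rfl
      rw [← key X hX h0 n q]
      exact hR
    · exact ⟨X, hX, n, q, fam_bad t X.1 (nice_all X.1 hD) hM (fun h => absurd h h0) hc0 hm ht, hR⟩

/-! ### the two tests -/

def t1 (c : ℕ) : Bool := Nat.beq (c % 169) 0 && !(Nat.beq (c % 11) 0)

def t2 (c : ℕ) : Bool :=
  Nat.beq (c % 13) 0 && !(Nat.beq (c % 11) 0) &&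
    (Nat.beq (c / 13 % 13) 2 || Nat.beq (c / 13 % 13) 3 || Nat.beq (c / 13 % 13) 4 ||
      (Nat.beq (c / 13 % 13) 6 && Nat.beq (c % 5) 0) || (Nat.beq (c / 13 % 13) 12 && Nat.beq (c % 5) 0)) &&
    (Nat.beq (c % 7) 0 || (!(Nat.beq (c % 27) 0) && !(Nat.beq (c % 25) 0))) &&
    (Nat.beq (c % 5) 0 || !(Nat.beq (c % 49) 0))

theorem check_alt1 : ∀ n ∈ List.range 17, t1 (n.factorial / 2) = false := by decide +kernel
theorem check_alt2 : ∀ n ∈ List.range 17, t2 (n.factorial / 2) = false := by decide +kernel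
theorem check_spor1 : ∀ x ∈ spor, (t1 x.2 && smB x.2) = false := by decide +kernel
theorem check_spor2 : ∀ x ∈ spor, (t2 x.2 && smB x.2) = false := by decide +kernel
theorem check1 : ∀ X ∈ gfams, lst t1 X.1 = [] := by decide +kernel

/-- the survivors -/
def surv : List Grp := [.psl 2 27, .psp 3 3, .psu 4 5, .oodd 3 3, .oplus 4 3, .g2 4, .sz 8]

theorem check2 : (gfams.flatMap fun X => (lst t2 X.1).map fun x => X.2 x.1 x.2) = surv := by decide +kernel

/-- 169 does not divide the order -/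
theorem no169 (T : OrderTable.{u}) {S : Type u} [Group S] [Finite S] (hS : IsKnownSimple' S)
    (hna : ¬ ∀ a b : S, a * b = b * a) (hm : Sm (Nat.card S)) (h11 : ¬ 11 ∣ Nat.card S) : ¬ 169 ∣ Nat.card S := by
  intro h
  have ht : t1 (Nat.card S) = true := by
    unfold t1
    rw [Bool.and_eq_true, Nat.beq_eq, Bool.not_eq_true', ← Bool.not_eq_true, Nat.beq_eq]
    exact ⟨Nat.mod_eq_zero_of_dvd h, fun h1 => h11 (Nat.dvd_of_mod_eq_zero h1)⟩
  obtain ⟨X, hX, n, q, hnq, -⟩ := enum t1 T hS hna hm ht check_alt1 check_spor1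
  rw [check1 X hX] at hnq
  exact absurd hnq List.not_mem_nil

/-- **The simple groups surviving the arithmetic conditions.** -/
theorem main (T : OrderTable.{u}) {S : Type u} [Group S] [Finite S] (hS : IsKnownSimple' S)
    (hna : ¬ ∀ a b : S, a * b = b * a) (hm : Sm (Nat.card S)) (ht : t2 (Nat.card S) = true) :
    ∃ g ∈ surv, Real g S := by
  obtain ⟨X, hX, n, q, hnq, hR⟩ := enum t2 T hS hna hm ht check_alt2 check_spor2
  refine ⟨X.2 n q, ?_, hR⟩
  rw [← check2, List.mem_flatMap]
  exact ⟨X, hX, List.mem_map.2 ⟨(n, q), hnq, rfl⟩⟩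

end Cfsg.Agent.H899.O7.Arith
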