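import Cfsg.Prelude.Def_Classical
import Cfsg.Agent.H155.Unit
import Cfsg.Agent.LieClassical.FieldTransfer

/-!
# Elements of order 30 in `PSp₆(3)` and in `PSU₄(5)` (helper899, after helper422)
-/

set_option autoImplicit false

open Matrix Cfsg

namespace Cfsg.Agent.H899.O7.Elts

/-- an element of order 30 in a central quotient -/
theorem orderOf_mk {G : Type*} [Group G] {g u : G} (h : g ^ 30 = 1) (h1 : g ^ 15 * u ≠ u * g ^ 15)
    (h2 : g ^ 10 * u ≠ u * g ^ 10) (h3 : g ^ 6 * u ≠ u * g ^ 6) :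
    orderOf (QuotientGroup.mk g : G ⧸ Subgroup.center G) = 30 := by
  have key : ∀ k : ℕ, g ^ k * u ≠ u * g ^ k → (QuotientGroup.mk g : G ⧸ Subgroup.center G) ^ k ≠ 1 := by
    intro k hk h4
    rw [← QuotientGroup.mk_pow, QuotientGroup.eq_one_iff] at h4
    exact hk (Subgroup.mem_center_iff.1 h4 u).symm
  apply orderOf_eq_of_pow_and_pow_div_prime (by norm_num)
  · rw [← QuotientGroup.mk_pow, h, QuotientGroup.mk_one]
  · intro p hp hp30
    have h5 : p ∈ (30 : ℕ).primeFactors := Nat.mem_primeFactors.2 ⟨hp, hp30, by norm_num⟩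
    have h6 : (30 : ℕ).primeFactors = {2, 3, 5} := by decide +kernel
    rw [h6] at h5
    simp only [Finset.mem_insert, Finset.mem_singleton] at h5
    rcases h5 with rfl | rfl | rfl
    · exact key 15 h1
    · exact key 10 h2
    · exact key 6 h3

/-! ### `PSp₆(3)` -/

local instance fact_three : Fact (Nat.Prime 3) := ⟨by norm_num⟩

abbrev M6 := Matrix (Fin 3 ⊕ Fin 3) (Fin 3 ⊕ Fin 3) (ZMod 3)

def m1 : M6 := fromBlocks !![2, 0, 0; 0, 0, 2; 0, 1, 1] !![2, 0, 0; 0, 2, 1; 0, 0, 0] !![0, 0, 0; 0, 0, 0; 0, 2, 2] !![2, 0, 0; 0, 1, 2; 0, 1, 0]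
def m2 : M6 := fromBlocks !![1, 0, 0; 0, 1, 1; 0, 1, 0] !![2, 0, 0; 0, 0, 1; 0, 2, 1] !![0, 0, 0; 0, 1, 1; 0, 2, 0] !![1, 0, 0; 0, 0, 2; 0, 2, 1]
def m3 : M6 := fromBlocks !![2, 0, 0; 0, 0, 2; 0, 2, 1] !![0, 0, 0; 0, 0, 1; 0, 2, 2] !![0, 0, 0; 0, 2, 1; 0, 2, 0] !![2, 0, 0; 0, 1, 1; 0, 1, 0]
def m5 : M6 := fromBlocks !![2, 0, 0; 0, 1, 0; 0, 0, 1] !![1, 0, 0; 0, 0, 0; 0, 0, 0] !![0, 0, 0; 0, 0, 0; 0, 0, 0] !![2, 0, 0; 0, 1, 0; 0, 0, 1]
def m6 : M6 := fromBlocks !![1, 0, 0; 0, 0, 2; 0, 1, 1] !![0, 0, 0; 0, 2, 1; 0, 0, 0] !![0, 0, 0; 0, 0, 0; 0, 2, 2] !![1, 0, 0; 0, 1, 2; 0, 1, 0]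
def m10 : M6 := fromBlocks !![1, 0, 0; 0, 1, 0; 0, 0, 1] !![1, 0, 0; 0, 0, 0; 0, 0, 0] !![0, 0, 0; 0, 0, 0; 0, 0, 0] !![1, 0, 0; 0, 1, 0; 0, 0, 1]
def m15 : M6 := fromBlocks !![2, 0, 0; 0, 1, 0; 0, 0, 1] !![0, 0, 0; 0, 0, 0; 0, 0, 0] !![0, 0, 0; 0, 0, 0; 0, 0, 0] !![2, 0, 0; 0, 1, 0; 0, 0, 1]
def mu : M6 := fromBlocks !![0, 1, 0; 1, 0, 0; 0, 0, 1] !![0, 0, 0; 0, 0, 0; 0, 0, 0] !![0, 0, 0; 0, 0, 0; 0, 0, 0] !![0, 1, 0; 1, 0, 0; 0, 0, 1]

theorem e2 : m1 ^ 2 = m2 := by rw [pow_two]; decide +kernel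
theorem e3 : m1 ^ 3 = m3 := by rw [pow_succ, e2]; decide +kernel
theorem e5 : m1 ^ 5 = m5 := by rw [show 5 = 3 + 2 from rfl, pow_add, e3, e2]; decide +kernel
theorem e6 : m1 ^ 6 = m6 := by rw [show 6 = 3 + 3 from rfl, pow_add, e3]; decide +kernel
theorem e10 : m1 ^ 10 = m10 := by rw [show 10 = 5 + 5 from rfl, pow_add, e5]; decide +kernel
theorem e15 : m1 ^ 15 = m15 := by rw [show 15 = 10 + 5 from rfl, pow_add, e10, e5]; decide +kernel
theorem e30 : m1 ^ 30 = 1 := by rw [show 30 = 15 + 15 from rfl, pow_add, e15]; decide +kernel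

def g1 : symplecticGroup (Fin 3) (ZMod 3) := ⟨m1, (SymplecticGroup.mem_iff (A := m1)).2 (by decide +kernel)⟩
def gu : symplecticGroup (Fin 3) (ZMod 3) := ⟨mu, (SymplecticGroup.mem_iff (A := mu)).2 (by decide +kernel)⟩

theorem g1_pow (n : ℕ) : ((g1 ^ n : symplecticGroup (Fin 3) (ZMod 3)) : M6) = m1 ^ n := rfl

theorem psp_three : ∃ g : PSp 3 (ZMod 3), orderOf g = 30 := by
  refine ⟨QuotientGroup.mk g1, orderOf_mk (u := gu) ?_ ?_ ?_ ?_⟩
  · exact Subtype.ext ((g1_pow _).trans e30)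
  · intro h
    have h2 : m1 ^ 15 * mu = mu * m1 ^ 15 := congrArg Subtype.val h
    rw [e15] at h2
    exact absurd h2 (by decide +kernel)
  · intro h
    have h2 : m1 ^ 10 * mu = mu * m1 ^ 10 := congrArg Subtype.val h
    rw [e10] at h2
    exact absurd h2 (by decide +kernel)
  · intro h
    have h2 : m1 ^ 6 * mu = mu * m1 ^ 6 := congrArg Subtype.val h
    rw [e6] at h2
    exact absurd h2 (by decide +kernel)

theorem psp {F : Type*} [Field F] [Fintype F] (hF : Fintype.card F = 3) : ∃ g : PSp 3 F, orderOf g = 30 := by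
  obtain ⟨g, hg⟩ := psp_three
  let e := Cfsg.Agent.LieClassical.FieldTransfer.pspCongr 3 (ZMod.ringEquivOfPrime F Nat.prime_three hF)
  exact ⟨e g, by rw [MulEquiv.orderOf_eq, hg]⟩

/-! ### `PSU₄(5)` -/

section Unit

variable {F : Type*} [Field F]

/-- `diag(1 + a n, z, w)` with `n` nilpotent in characteristic 5 -/
def M (a z w : F) : Matrix (Fin 4) (Fin 4) F :=
  !![1 + a, 2 * a, 0, 0; 2 * a, 1 + 4 * a, 0, 0; 0, 0, z, 0; 0, 0, 0, w]

def pU (F : Type*) [Field F] : Matrix (Fin 4) (Fin 4) F := !![0, 0, 1, 0; 0, 0, 0, 1; 1, 0, 0, 0; 0, 1, 0, 0]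

theorem M_mul (h5 : (5 : F) = 0) (a b z z' w w' : F) : M a z w * M b z' w' = M (a + b) (z * z') (w * w') := by
  ext i j
  fin_cases i <;> fin_cases j <;> simp [M, Matrix.mul_apply, Fin.sum_univ_four] <;>
    first
    | linear_combination (0 : F) * h5
    | linear_combination (a * b) * h5
    | linear_combination (2 * a * b) * h5
    | linear_combination (4 * a * b) * h5

theorem M_one : M (0 : F) 1 1 = 1 := by
  ext i j
  fin_cases i <;> fin_cases j <;> simp [M]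

theorem M_pow (h5 : (5 : F) = 0) (a z w : F) (k : ℕ) : M a z w ^ k = M ((k : F) * a) (z ^ k) (w ^ k) := by
  induction k with
  | zero => rw [pow_zero, pow_zero, pow_zero, Nat.cast_zero, zero_mul, M_one]
  | succ k ih =>
    rw [pow_succ, ih, M_mul h5]
    congr 1 <;> (push_cast; ring)

theorem M_T (a z w : F) : (M a z w)ᵀ = M a z w := by
  ext i j
  fin_cases i <;> fin_cases j <;> simp [M]

theorem det_M (h5 : (5 : F) = 0) (a z w : F) (h : z * w = 1) : (M a z w).det = 1 := by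
  rw [Matrix.det_succ_row_zero, Fin.sum_univ_four]
  simp [M, Matrix.det_fin_three, Fin.succAbove, Matrix.submatrix_apply]
  linear_combination (a * (z * w)) * h5 + h

theorem det_pU : (pU F).det = 1 := by
  rw [Matrix.det_succ_row_zero, Fin.sum_univ_four]
  simp [pU, Matrix.det_fin_three, Fin.succAbove, Matrix.submatrix_apply]

theorem pU_comm {a z w : F} (h : M a z w * pU F = pU F * M a z w) : z = 1 + a ∧ w = 1 + 4 * a ∧ 2 * a = 0 := by
  refine ⟨?_, ?_, ?_⟩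
  · have h1 := congrFun (congrFun h 2) 0
    simpa [M, pU, Matrix.mul_apply, Fin.sum_univ_four] using h1
  · have h1 := congrFun (congrFun h 3) 1
    simpa [M, pU, Matrix.mul_apply, Fin.sum_univ_four] using h1
  · have h1 := congrFun (congrFun h 0) 3
    simpa [M, pU, Matrix.mul_apply, Fin.sum_univ_four] using h1

end Unit

theorem psu {F : Type*} [Field F] [Fintype F] (hF : Fintype.card F = 25) :
    ∃ g : PSU 4 F 5, orderOf g = 30 := by
  have : Fact (Nat.Prime 5) := ⟨by norm_num⟩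
  have hc : CharP F 5 := charP_of_card_eq_prime_pow (f := 2) (by rw [hF]; norm_num)
  have h5 : (5 : F) = 0 := by exact_mod_cast CharP.cast_eq_zero F 5
  have h20 : (2 : F) ≠ 0 := by
    intro h
    have : (1 : F) = 0 := by linear_combination h5 - 2 * h
    exact one_ne_zero this
  obtain ⟨t, ht⟩ : IsSquare (2 : F) := by
    rw [FiniteField.isSquare_iff (by rw [ringChar.eq F 5]; norm_num) h20, hF]
    norm_num
    linear_combination 819 * h5
  have ht2 : t * t = 2 := ht.symm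
  have ht0 : t ≠ 0 := by
    rintro rfl
    apply h20
    rw [← ht2, mul_zero]
  obtain ⟨σ, hσ⟩ := Cfsg.Agent.H155.Unit.exists_frobHom F 5 1
  rw [pow_one] at hσ
  have hσ2 : σ 2 = 2 := map_ofNat σ 2
  have hσ4 : σ 4 = 4 := map_ofNat σ 4
  have hσt : σ t = -t := by
    rw [hσ]
    linear_combination (t * t * t + 2 * t) * ht2 + t * h5
  -- an element of order 6
  obtain ⟨x, hx⟩ := (inferInstance : IsCyclic Fˣ).exists_ofOrder_eq_natCard
  have hx24 : orderOf x = 24 := by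
    classical
    rw [hx, Nat.card_eq_fintype_card, Fintype.card_units, hF]
  obtain ⟨y, hy6⟩ : ∃ y : Fˣ, orderOf y = 6 := ⟨x ^ 4, by rw [orderOf_pow' x (by norm_num), hx24]; norm_num⟩
  have hz6 : (y : F) ^ 6 = 1 := by
    have h1 := pow_orderOf_eq_one y
    rw [hy6] at h1
    have h2 := congrArg Units.val h1
    rwa [Units.val_pow_eq_pow_val, Units.val_one] at h2
  have hne : ∀ k : ℕ, ¬ 6 ∣ k → (y : F) ^ k ≠ 1 := by
    intro k hk h1
    apply hk
    rw [← hy6]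
    apply orderOf_dvd_of_pow_eq_one
    apply Units.ext
    rw [Units.val_pow_eq_pow_val, Units.val_one]
    exact h1
  set z : F := (y : F) with hz
  have hz0 : z ≠ 0 := y.ne_zero
  set w : F := z⁻¹ with hw
  have hzw : z * w = 1 := mul_inv_cancel₀ hz0
  have hσz : z * σ z = 1 := by rw [hσ, ← pow_succ']; exact hz6
  have hσw : w * σ w = 1 := by rw [hw, map_inv₀, ← mul_inv, hσz, inv_one]
  have hmap : ∀ a b c : F, (M a b c).map σ = M (σ a) (σ b) (σ c) := by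
    intro a b c
    ext i j
    fin_cases i <;> fin_cases j <;> simp [M, hσ2, hσ4]
  have hσP : (pU F).map σ = pU F := by
    ext i j
    fin_cases i <;> fin_cases j <;> simp [pU]
  have hPT : (pU F)ᵀ * pU F = 1 := by
    ext i j
    fin_cases i <;> fin_cases j <;> simp [pU, Matrix.mul_apply, Fin.sum_univ_four]
  let gS : SpecialLinearGroup (Fin 4) F := ⟨M t z w, det_M h5 t z w hzw⟩
  let uS : SpecialLinearGroup (Fin 4) F := ⟨pU F, det_pU⟩
  have hM : gS ∈ SU 4 F 5 := by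
    refine (Cfsg.Agent.H155.Unit.mem_SU_iff_matrix σ hσ gS).2 ?_
    change (M t z w)ᵀ * (M t z w).map σ = 1
    rw [hmap, M_T, M_mul h5, hσt, hσz, hσw, add_neg_cancel, M_one]
  have hP : uS ∈ SU 4 F 5 := by
    refine (Cfsg.Agent.H155.Unit.mem_SU_iff_matrix σ hσ uS).2 ?_
    change (pU F)ᵀ * (pU F).map σ = 1
    rw [hσP, hPT]
  let g : SU 4 F 5 := ⟨_, hM⟩
  let u : SU 4 F 5 := ⟨_, hP⟩
  have hmul : ∀ x y : SU 4 F 5, (x * y).1.1 = x.1.1 * y.1.1 := fun _ _ => rfl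
  have hpow : ∀ k : ℕ, (g ^ k).1.1 = M ((k : F) * t) (z ^ k) (w ^ k) := by
    intro k
    rw [← M_pow h5]
    induction k with
    | zero => rfl
    | succ k ih => rw [pow_succ, hmul, ih, pow_succ]
  have hcast : ∀ x y : SU 4 F 5, x = y ↔ x.1.1 = y.1.1 := by
    intro x y
    exact ⟨fun h => by rw [h], fun h => Subtype.ext (Subtype.ext h)⟩
  have hw6 : w ^ 6 = 1 := by rw [hw, inv_pow, hz6, inv_one]
  have hcomm : ∀ k : ℕ, g ^ k * u = u * g ^ k → z ^ k = 1 + (k : F) * t ∧ 2 * ((k : F) * t) = 0 := by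
    intro k hk
    rw [hcast, hmul, hmul, hpow] at hk
    obtain ⟨h1, -, h3⟩ := pU_comm hk
    exact ⟨h1, h3⟩
  have hzk : ∀ k : ℕ, ¬ 6 ∣ k → g ^ k * u ≠ u * g ^ k := by
    intro k hk h
    obtain ⟨h1, h3⟩ := hcomm k h
    have h4 : (k : F) * t = 0 := (mul_eq_zero.1 h3).resolve_left h20
    rw [h4, add_zero] at h1
    exact hne k hk h1
  refine ⟨QuotientGroup.mk g, orderOf_mk (u := u) ?_ (hzk 15 (by norm_num)) (hzk 10 (by norm_num)) ?_⟩
  · rw [hcast, hpow]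
    have h1 : z ^ 30 = 1 := by rw [show 30 = 6 * 5 by norm_num, pow_mul, hz6, one_pow]
    have h2 : w ^ 30 = 1 := by rw [show 30 = 6 * 5 by norm_num, pow_mul, hw6, one_pow]
    have h3 : (((30 : ℕ) : F) * t) = 0 := by push_cast; linear_combination 6 * t * h5
    rw [h1, h2, h3, M_one]
    rfl
  · intro h
    obtain ⟨-, h3⟩ := hcomm 6 h
    have h4 : ((6 : ℕ) : F) * t = t := by push_cast; linear_combination t * h5
    rw [h4] at h3
    rcases mul_eq_zero.1 h3 with h6 | h6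
    · exact h20 h6
    · exact ht0 h6

end Cfsg.Agent.H899.O7.Elts
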