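import Cfsg.Agent.H899.O7.Red
import Cfsg.Agent.H899.O7.Emb
import Cfsg.Prelude.Def_KGroupFacts

/-!
# The end of the proof: the radical is trivial, no outer automorphisms (helper899)
-/

set_option autoImplicit false
set_option linter.unusedSectionVars false

namespace Cfsg.Agent.H899.O7.Fin

open Subgroup Cfsg
open Cfsg.Agent.H363.Frat (NonAdj)
open Cfsg.Agent.H899.O7.Emb (Frobs)

universe u

/-- **The radical is trivial.** -/
theorem eq_bot {G : Type u} [Group G] [Finite G] (hG : Sp G) (K : Subgroup G) [K.Normal] (h13 : ¬ 13 ∣ Nat.card K)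
    (S : Subgroup (G ⧸ K)) [S.Normal] [IsSimpleGroup S] (h13S : 13 ∣ Nat.card S) {L : Type*} [Group L] (hL : Frobs L)
    (e : S ≃* L) : K = ⊥ := by
  rw [← Subgroup.card_eq_one]
  by_contra h1
  obtain ⟨r, hr, hrK⟩ := Nat.exists_prime_and_dvd h1
  by_cases hr3 : r = 3
  · subst hr3
    obtain ⟨E, z, hE1, hE, hz, hzE, hfix⟩ := hL.two
    have hfL : Finite L := Finite.of_equiv S e.toEquiv
    have : Fact (Nat.Prime 2) := ⟨Nat.prime_two⟩
    have h2 := Elim.frob_prime_mem hG K h13 hr hrK S h13S e E hE1 (by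
      obtain ⟨a, ha⟩ := IsPGroup.iff_card.1 hE
      rw [ha]
      intro h3
      have := hr.dvd_of_dvd_pow h3
      norm_num at this) z hzE (p := 7) (by norm_num) (by norm_num) hz hfix
    exact absurd h2 (by decide)
  · obtain ⟨W, y, hW1, hW, hy, hyW⟩ := hL.three
    exact Elim.frob13 hG K h13 hr hrK S h13S e W hW1 Nat.prime_three hr3 (by norm_num) hW y hyW hy

/-! ### outer automorphisms -/

section Out

variable {S : Type*} [Group S] [Finite S]

/-- the classes of the automorphisms fixing `x` -/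
def X (x : S) : Subgroup (Out S) := (MulAction.stabilizer (MulAut S) x).map (QuotientGroup.mk' (Inn S))

theorem mem_X {x : S} {o : Out S} : o ∈ X x ↔ ∃ a : MulAut S, a x = x ∧ QuotientGroup.mk' (Inn S) a = o := Iff.rfl

variable (hna : ∀ r : ℕ, r.Prime → r ≠ 13 → NonAdj S 13 r) (h169 : ¬ 169 ∣ Nat.card S) {x : S} (hx : orderOf x = 13)

include h169 hx

omit hx in
theorem sylow_eq {y : S} (hy : orderOf y = 13) {P : Sylow 13 S} (h : zpowers y ≤ (P : Subgroup S)) :
    zpowers y = (P : Subgroup S) := by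
  have : Fact (Nat.Prime 13) := ⟨by norm_num⟩
  refine Subgroup.eq_of_le_of_card_ge h ?_
  rw [Nat.card_zpowers, hy]
  obtain ⟨k, hk⟩ := IsPGroup.iff_card.1 P.isPGroup'
  have hk2 : k < 2 := by
    by_contra h2
    apply h169
    have h3 : 13 ^ 2 ∣ 13 ^ k := pow_dvd_pow 13 (by omega)
    rw [← hk] at h3
    exact (by norm_num : 169 ∣ 13 ^ 2).trans (h3.trans (card_subgroup_dvd_card _))
  rw [hk]
  interval_cases k <;> norm_num

/-- Sylow's theorem -/
theorem exists_conj (a : MulAut S) : ∃ s : S, (MulAut.conj s * a) x ∈ zpowers x := by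
  have : Fact (Nat.Prime 13) := ⟨by norm_num⟩
  have hp : ∀ y : S, orderOf y = 13 → IsPGroup 13 (zpowers y) := fun y hy =>
    IsPGroup.of_card (n := 1) (by rw [Nat.card_zpowers, hy, pow_one])
  have hax : orderOf (a x) = 13 := by rw [MulEquiv.orderOf_eq, hx]
  obtain ⟨P, hP⟩ := (hp x hx).exists_le_sylow
  obtain ⟨P', hP'⟩ := (hp _ hax).exists_le_sylow
  obtain ⟨s, hs⟩ := MulAction.exists_smul_eq S P' P
  refine ⟨s, ?_⟩
  rw [sylow_eq h169 hx hP, ← hs]
  have h1 : a x ∈ (P' : Subgroup S) := hP' (mem_zpowers _)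
  change s * a x * s⁻¹ ∈ _
  rw [Sylow.coe_subgroup_smul]
  exact Subgroup.smul_mem_pointwise_smul (a x) (MulAut.conj s) _ h1

/-- every class has a representative normalizing `⟨x⟩` -/
theorem exists_rep (o : Out S) : ∃ a : MulAut S, (∃ i : ℤ, a x = x ^ i) ∧ QuotientGroup.mk' (Inn S) a = o := by
  obtain ⟨a, rfl⟩ := QuotientGroup.mk'_surjective (Inn S) o
  obtain ⟨s, hs⟩ := exists_conj h169 hx a
  obtain ⟨i, hi⟩ := hs
  refine ⟨MulAut.conj s * a, ⟨i, hi.symm⟩, ?_⟩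
  rw [map_mul]
  have h1 : QuotientGroup.mk' (Inn S) (MulAut.conj s) = 1 := (QuotientGroup.eq_one_iff _).2 ⟨s, rfl⟩
  rw [h1, one_mul]

/-- the commutators -/
theorem comm_mem (o₁ o₂ : Out S) : o₁⁻¹ * o₂⁻¹ * o₁ * o₂ ∈ X x := by
  obtain ⟨a, ⟨i, hi⟩, rfl⟩ := exists_rep h169 hx o₁
  obtain ⟨b, ⟨j, hj⟩, rfl⟩ := exists_rep h169 hx o₂
  refine ⟨a⁻¹ * b⁻¹ * a * b, ?_, by rw [map_mul, map_mul, map_mul, map_inv, map_inv]⟩
  have h1 : (a * b) x = (b * a) x := by
    rw [MulAut.mul_apply, MulAut.mul_apply, hi, hj, map_zpow, map_zpow, hi, hj, ← zpow_mul, ← zpow_mul, mul_comm]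
  have h2 : (b * a)⁻¹ * (a * b) = a⁻¹ * b⁻¹ * a * b := by group
  show (a⁻¹ * b⁻¹ * a * b) x = x
  rw [← h2, MulAut.mul_apply, h1, MulAut.inv_apply_self]

omit h169 in
include hna in
/-- inner automorphisms fixing `x` -/
theorem inner_trivial [IsSimpleGroup S] (hSna : ¬ IsMulCommutative S) {a : MulAut S} (ha : a ∈ Inn S) (hax : a x = x)
    {n : ℕ} (hn : a ^ n = 1) (h13 : ¬ 13 ∣ n) : a = 1 := by
  have p13 : (13 : ℕ).Prime := by norm_num
  obtain ⟨t, rfl⟩ := ha
  have h1 : x * t = t * x := by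
    have h2 : t * x * t⁻¹ = x := hax
    rw [mul_inv_eq_iff_eq_mul] at h2
    exact h2.symm
  have h2 : t ^ n = 1 := by
    rw [← Subgroup.mem_bot, ← Cfsg.Agent.H407.Radical.center_simple hSna, mem_center_iff]
    intro g
    have h3 : MulAut.conj (t ^ n) g = g := by rw [map_pow, hn]; rfl
    have h4 : t ^ n * g * (t ^ n)⁻¹ = g := h3
    rw [mul_inv_eq_iff_eq_mul] at h4
    exact h4.symm
  have h3 : t = 1 := by
    by_contra ht
    exact Ker.comm_false hna hx ht (fun h => h13 (h.trans (orderOf_dvd_of_pow_eq_one h2))) h1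
  rw [h3, map_one]

end Out

/-- **No outer automorphisms.** -/
theorem top_of {Q : Type*} [Group Q] [Finite Q] (hna : ∀ r : ℕ, r.Prime → r ≠ 13 → NonAdj Q 13 r) (S : Subgroup Q)
    [S.Normal] (hC : centralizer (S : Set Q) = ⊥) {x : S} (hx : orderOf x = 13) (hX : X x = ⊤)
    (h13 : ¬ 13 ∣ Nat.card (Out S)) : S = ⊤ := by
  have p13 : (13 : ℕ).Prime := by norm_num
  have : Fact (Nat.Prime 13) := ⟨p13⟩
  set Φ : Q →* MulAut S := MulAut.conjNormal with hΦ
  have hΦa : ∀ (g : Q) (s : S), ((Φ g s : S) : Q) = g * s * g⁻¹ := fun g s => MulAut.conjNormal_apply g s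
  -- elements acting as inner automorphisms
  have hinn : ∀ g : Q, Φ g ∈ Inn S → g ∈ S := by
    rintro g ⟨s, hs⟩
    have h1 : (s : Q)⁻¹ * g ∈ centralizer (S : Set Q) := by
      rw [mem_centralizer_iff]
      intro t ht
      have h2 := congrArg Subtype.val (DFunLike.congr_fun hs ⟨t, ht⟩)
      have h3 : (s : Q) * t * (s : Q)⁻¹ = g * t * g⁻¹ := h2.trans (hΦa g ⟨t, ht⟩)
      have h4 := congrArg (fun y => (s : Q)⁻¹ * y * g) h3
      simpa [mul_assoc] using h4
    rw [hC, Subgroup.mem_bot, inv_mul_eq_one] at h1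
    rw [← h1]
    exact s.2
  rw [eq_top_iff]
  intro g _
  obtain ⟨a, ha, hag⟩ : QuotientGroup.mk' (Inn S) (Φ g) ∈ X x := by rw [hX]; trivial
  have ha' : a x = x := ha
  obtain ⟨b, ⟨s, rfl⟩, hb⟩ := (QuotientGroup.mk'_eq_mk' (Inn S)).1 hag
  -- `a * conj s = Φ g`
  have h1 : Φ (g * (s : Q)⁻¹) = a := by
    rw [map_mul, map_inv, ← hb]
    have h2 : Φ (s : Q) = MulAut.conj s := by
      apply MulEquiv.ext
      intro t
      exact Subtype.ext (hΦa s t)
    rw [h2, mul_inv_cancel_right]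
  set h := g * (s : Q)⁻¹ with hh
  have hhx : (x : Q) * h = h * x := by
    have h2 := congrArg Subtype.val (DFunLike.congr_fun h1 x)
    rw [hΦa, ha', mul_inv_eq_iff_eq_mul] at h2
    exact h2.symm
  have hx' : orderOf (x : Q) = 13 := by rw [Subgroup.orderOf_coe, hx]
  have hp : IsPGroup 13 (zpowers h) := by
    refine Ker.isPGroup_of_comm hna hx' ?_
    rintro _ ⟨i, rfl⟩
    exact (show Commute (x : Q) h from hhx).zpow_right i
  obtain ⟨k, hk⟩ := hp ⟨h, mem_zpowers h⟩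
  have hk' : h ^ 13 ^ k = 1 := congrArg Subtype.val hk
  have h2 : QuotientGroup.mk' (Inn S) (Φ h) = 1 := by
    have h3 : orderOf (QuotientGroup.mk' (Inn S) (Φ h)) ∣ 13 ^ k := by
      apply orderOf_dvd_of_pow_eq_one
      rw [← map_pow, ← map_pow, hk', map_one, map_one]
    have h4 : Nat.Coprime (13 ^ k) (Nat.card (Out S)) :=
      Nat.Coprime.pow_left k ((Nat.Prime.coprime_iff_not_dvd p13).2 h13)
    exact orderOf_eq_one_iff.1 (Nat.eq_one_of_dvd_coprimes h4 h3 (orderOf_dvd_natCard _))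
  have h3 : h ∈ S := hinn h ((QuotientGroup.eq_one_iff _).1 h2)
  have h4 := S.mul_mem h3 s.2
  rwa [hh, inv_mul_cancel_right] at h4

/-- subgroups of `S₄` containing the commutators and an element of order 4 -/
theorem perm_four (X : Subgroup (Equiv.Perm (_root_.Fin 4))) (h1 : ∀ a b : Equiv.Perm (_root_.Fin 4), a⁻¹ * b⁻¹ * a * b ∈ X)
    {t : Equiv.Perm (_root_.Fin 4)} (ht : t ∈ X) (ht2 : t ^ 2 ≠ 1) (ht4 : t ^ 4 = 1) : X = ⊤ := by
  have key : ∀ s : Equiv.Perm (_root_.Fin 4), Equiv.Perm.sign s = 1 → s ∈ X := by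
    have h2 : ∀ s : Equiv.Perm (_root_.Fin 4), Equiv.Perm.sign s = 1 →
        ∃ a b : Equiv.Perm (_root_.Fin 4), a⁻¹ * b⁻¹ * a * b = s := by decide +kernel
    intro s hs
    obtain ⟨a, b, rfl⟩ := h2 s hs
    exact h1 a b
  have hodd : Equiv.Perm.sign t = -1 := by
    have h3 : ∀ t : Equiv.Perm (_root_.Fin 4), t ^ 2 ≠ 1 → t ^ 4 = 1 → Equiv.Perm.sign t = -1 := by decide +kernel
    exact h3 t ht2 ht4
  rw [eq_top_iff]
  intro s _
  rcases Int.units_eq_one_or (Equiv.Perm.sign s) with hs | hs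
  · exact key s hs
  · have h3 : s * t⁻¹ ∈ X := key _ (by rw [map_mul, map_inv, hs, hodd]; decide)
    have h4 := X.mul_mem h3 ht
    rwa [inv_mul_cancel_right] at h4

end Cfsg.Agent.H899.O7.Fin
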