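import Cfsg.Agent.H407.Radical
import Cfsg.Agent.H899.O7.Sp

/-!
# The order of the solvable radical is prime to 13 (helper899, after helper407)
-/

set_option autoImplicit false
set_option linter.unusedSectionVars false

namespace Cfsg.Agent.H899.O7.Rad

open Subgroup Cfsg
open Cfsg.Agent.H363.Frat (NonAdj)
open Cfsg.Agent.H407.Radical (DihFor center_simple cyc_congr)

universe u

/-! ### `PSL(2, q)` with cyclic Sylow subgroups -/

section Psl

open Matrix Cfsg.Agent.H407.PslTwo

theorem false_of {F : Type*} [Field F] [Fintype F] (hodd : Odd (Fintype.card F)) (h3 : 3 < Fintype.card F)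
    (hsm : ∀ r : ℕ, r.Prime → r ∣ Nat.card (Matrix.ProjectiveSpecialLinearGroup (Fin 2) F) → r ≤ 13)
    (h11 : ¬ 11 ∣ Nat.card (Matrix.ProjectiveSpecialLinearGroup (Fin 2) F))
    (h5 : 5 ∣ Nat.card (Matrix.ProjectiveSpecialLinearGroup (Fin 2) F))
    (h7 : 7 ∣ Nat.card (Matrix.ProjectiveSpecialLinearGroup (Fin 2) F))
    (hcyc : ∀ r : ℕ, r.Prime → r ≠ 2 → r ≠ 13 → ∀ P : Subgroup (Matrix.ProjectiveSpecialLinearGroup (Fin 2) F),
      IsPGroup r P → IsCyclic P) : False := by
  have hc := card_eq hodd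
  obtain ⟨p, hchar⟩ := CharP.exists F
  obtain ⟨f, hp, hf⟩ := FiniteField.card F p
  have hp2 : p ≠ 2 := by
    rintro rfl
    rw [hf] at hodd
    exact (Nat.not_odd_iff_even.2 (Nat.even_pow.2 ⟨even_two, f.pos.ne'⟩)) hodd
  have hpc : p ∣ Nat.card (Matrix.ProjectiveSpecialLinearGroup (Fin 2) F) := by
    have h1 : p ∣ 2 * Nat.card (Matrix.ProjectiveSpecialLinearGroup (Fin 2) F) := by
      rw [hc, hf]
      exact (dvd_pow_self p f.pos.ne').mul_right _
    rcases (hp.dvd_mul).1 h1 with h | h
    · exact absurd ((Nat.prime_dvd_prime_iff_eq hp Nat.prime_two).1 h) hp2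
    · exact h
  have hp13 := hsm p hp hpc
  by_cases h13 : p = 13
  · subst h13
    have h5' : 5 ∣ 2 * Nat.card (Matrix.ProjectiveSpecialLinearGroup (Fin 2) F) := h5.mul_left 2
    rw [hc, hf] at h5'
    have hp5 : (5 : ℕ).Prime := by norm_num
    have h51 : 5 ∣ (13 ^ (f : ℕ)) ^ 2 - 1 := by
      rcases (hp5.dvd_mul).1 h5' with h | h
      · exact absurd (hp5.dvd_of_dvd_pow h) (by norm_num)
      · exact h
    have hpos : 1 ≤ (13 ^ (f : ℕ)) ^ 2 := Nat.one_le_pow _ _ (by positivity)
    have h52 : (13 ^ (f : ℕ)) ^ 2 % 5 = 1 := by omega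
    have h2f : (f : ℕ) % 2 = 0 := by
      rw [← pow_mul, mul_comm, Nat.pow_mod] at h52
      have hd := Nat.div_add_mod (f : ℕ) 2
      have hlt : (f : ℕ) % 2 < 2 := Nat.mod_lt _ (by norm_num)
      rw [← hd] at h52
      generalize (f : ℕ) % 2 = t at h52 hlt ⊢
      generalize (f : ℕ) / 2 = s at h52
      have e : ((13 % 5) ^ (2 * (2 * s + t))) % 5 = ((13 % 5) ^ (2 * t)) % 5 := by
        rw [Nat.mul_add, pow_add, Nat.mul_mod, ← mul_assoc, pow_mul, Nat.pow_mod]
        norm_num
      rw [e] at h52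
      interval_cases t
      · rfl
      · exact absurd h52 (by norm_num)
    obtain ⟨k, hk⟩ := Nat.dvd_of_mod_eq_zero h2f
    have h17 : 17 ∣ (13 ^ (f : ℕ)) ^ 2 - 1 := by
      rw [← pow_mul, hk, show 2 * k * 2 = 4 * k by ring, pow_mul]
      have := Nat.sub_dvd_pow_sub_pow (13 ^ 4) 1 k
      rw [one_pow] at this
      exact (by norm_num : 17 ∣ 13 ^ 4 - 1).trans this
    have h17' : 17 ∣ 2 * Nat.card (Matrix.ProjectiveSpecialLinearGroup (Fin 2) F) := by
      rw [hc, hf]
      exact h17.mul_left _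
    have hp17 : (17 : ℕ).Prime := by norm_num
    rcases (hp17.dvd_mul).1 h17' with h | h
    · exact absurd h (by norm_num)
    · have := hsm 17 hp17 h
      omega
  · have hq := card_eq_prime hp (hcyc p hp hp2 h13)
    rw [hq] at hc h3
    have h2 := hp.two_le
    have hp11 : p ≠ 11 := fun h => h11 (h ▸ hpc)
    interval_cases p
    all_goals omega

end Psl

section

variable {G : Type u} [Group G] [Finite G] (hG : Sp G)

include hG

theorem nonAdj {r : ℕ} (hr : r.Prime) (_h13 : r ≠ 13) : NonAdj G 13 r := hG.nonAdj hr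

/-- 13-elements and elements of prime order `≠ 13` do not commute -/
theorem comm_eq_one {r : ℕ} (hr : r.Prime) (h13 : r ≠ 13) {x y : G} (hx : ∃ k, x ^ 13 ^ k = 1)
    (hy : ∃ k, y ^ r ^ k = 1) (hxy : x * y = y * x) : x = 1 ∨ y = 1 := by
  have p13 : (13 : ℕ).Prime := by norm_num
  by_cases hy1 : y = 1
  · exact Or.inr hy1
  · left
    obtain ⟨a, ha⟩ := hx
    obtain ⟨b, hb⟩ := hy
    obtain ⟨a', -, ha'⟩ := (Nat.dvd_prime_pow p13).1 (orderOf_dvd_of_pow_eq_one ha)
    obtain ⟨b', -, hb'⟩ := (Nat.dvd_prime_pow hr).1 (orderOf_dvd_of_pow_eq_one hb)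
    exact Cfsg.Agent.H363.Frat.eq_one_of_commute p13 hr (Ne.symm h13) (nonAdj hG hr h13) ⟨a', ha'⟩ ⟨b', hb'⟩ hxy hy1

/-- an `r`-group normalizing an 13-group `≠ 1` -/
theorem cyc_or {r : ℕ} (hr : r.Prime) (h13 : r ≠ 13) {P V : Subgroup G} (hP : IsPGroup r P) (hV : IsPGroup 13 V)
    (hV1 : V ≠ ⊥) (hPV : P ≤ normalizer (V : Set G)) :
    IsCyclic P ∨ (r = 2 ∧ ∃ n : ℕ, Nonempty (P ≃* QuaternionGroup (2 ^ n))) := by
  have p13 : (13 : ℕ).Prime := by norm_num
  refine Cfsg.Agent.H407.Basic.fpf_pgroup hr hP hPV hV1 ?_ ?_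
  · have : Fact r.Prime := ⟨hr⟩
    have : Fact (Nat.Prime 13) := ⟨p13⟩
    obtain ⟨a, ha⟩ := IsPGroup.iff_card.1 hP
    obtain ⟨b, hb⟩ := IsPGroup.iff_card.1 hV
    rw [ha, hb]
    exact Nat.Coprime.pow _ _ ((Nat.coprime_primes hr p13).2 h13)
  · intro a ha ha1 v hv hav
    obtain ⟨k, hk⟩ := hP ⟨a, ha⟩
    obtain ⟨l, hl⟩ := hV ⟨v, hv⟩
    rcases comm_eq_one hG hr h13 ⟨l, congrArg Subtype.val hl⟩ ⟨k, congrArg Subtype.val hk⟩ hav.symm with h | h
    · exact h
    · exact absurd h ha1

variable (K : Subgroup G) [K.Normal] (hK : Group.IsSolvable K)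

include hK

/-- if 13 divides the order of the solvable normal subgroup `K` then 3, 5, 7 do not -/
theorem not_dvd (h : 13 ∣ Nat.card K) : ∀ q ∈ ({3, 5, 7} : Finset ℕ), ¬ q ∣ Nat.card K := by
  have p3 : (3 : ℕ).Prime := by norm_num
  have p5 : (5 : ℕ).Prime := by norm_num
  have p7 : (7 : ℕ).Prime := by norm_num
  have p13 : (13 : ℕ).Prime := by norm_num
  have d3 := (hG.prime p3).2 (by decide)
  have d5 := (hG.prime p5).2 (by decide)
  have d7 := (hG.prime p7).2 (by decide)
  intro q hq hqK
  have hq' : q = 3 ∨ q = 5 ∨ q = 7 := by simpa using hq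
  rcases hq' with rfl | rfl | rfl
  · exact Cfsg.Agent.H395.Coclique.coclique p13 p3 p7 (by norm_num) (by norm_num) (by norm_num)
      (hG.no' (by decide)) (hG.no' (by decide)) (hG.no' (by decide)) K hK h hqK d7
  · exact Cfsg.Agent.H395.Coclique.coclique p13 p5 p7 (by norm_num) (by norm_num) (by norm_num)
      (hG.no' (by decide)) (hG.no' (by decide)) (hG.no' (by decide)) K hK h hqK d7
  · exact Cfsg.Agent.H395.Coclique.coclique p13 p7 p5 (by norm_num) (by norm_num) (by norm_num)
      (hG.no' (by decide)) (hG.no' (by decide)) (hG.no' (by decide)) K hK h hqK d5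

/-- if 13 divides `|K|` then 3, 5, 7 divide the order of every nonsolvable normal subgroup of `G / K` -/
theorem dvd_S (h : 13 ∣ Nat.card K) (S : Subgroup (G ⧸ K)) [S.Normal] (hns : ¬ Group.IsSolvable S) :
    ∀ q ∈ ({3, 5, 7} : Finset ℕ), q ∣ Nat.card S := by
  have hnK := not_dvd hG K hK h
  have hp : ∀ q ∈ ({3, 5, 7} : Finset ℕ), q.Prime ∧ q ≠ 13 ∧ q ∣ Nat.card G := by
    intro q hq
    have hq' : q = 3 ∨ q = 5 ∨ q = 7 := by simpa using hq
    have hqp : q.Prime := by rcases hq' with rfl | rfl | rfl <;> norm_num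
    refine ⟨hqp, by omega, (hG.prime hqp).2 ?_⟩
    rcases hq' with rfl | rfl | rfl <;> decide
  have hKM : K ≤ S.comap (QuotientGroup.mk' K) := by
    intro x hx
    rw [mem_comap, QuotientGroup.mk'_apply, (QuotientGroup.eq_one_iff x).mpr hx]
    exact one_mem _
  have hcM := Cfsg.Agent.H425.CharChief.card_comap_mk K S
  have hK0 : 0 < Nat.card K := Nat.card_pos
  have step : ∀ q ∈ ({3, 5, 7} : Finset ℕ), ∀ r ∈ ({3, 5, 7} : Finset ℕ), q ≠ r →
      (∀ x : G, orderOf x ≠ q * r) → q ∣ Nat.card S → r ∣ Nat.card S := by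
    intro q hq r hr hqr hno hqS
    obtain ⟨hqp, hq13, -⟩ := hp q hq
    obtain ⟨hrp, hr13, hrG⟩ := hp r hr
    by_contra hrS
    have h1 : r ∣ Nat.card G / Nat.card (S.comap (QuotientGroup.mk' K)) := by
      have h2 := Subgroup.card_mul_index (S.comap (QuotientGroup.mk' K))
      rw [← h2, Nat.mul_div_cancel_left _ Nat.card_pos]
      rw [← h2, hcM] at hrG
      rcases (hrp.dvd_mul).1 hrG with h3 | h3
      · rcases (hrp.dvd_mul).1 h3 with h4 | h4
        · exact absurd h4 hrS
        · exact absurd h4 (hnK r hr)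
      · exact h3
    rcases Cfsg.Agent.H395.Coclique.main K (S.comap (QuotientGroup.mk' K)) hKM 13 q r (by norm_num) hqp hrp
      (Ne.symm hq13) (Ne.symm hr13) hqr h (by rw [hcM, Nat.mul_div_cancel _ hK0]; exact hqS) h1 with h5 | h5 | h5
    · obtain ⟨x, hx⟩ := h5
      exact nonAdj hG hqp hq13 x hx
    · obtain ⟨x, hx⟩ := h5
      exact nonAdj hG hrp hr13 x hx
    · obtain ⟨x, hx⟩ := h5
      exact hno x hx
  have s37 := step 3 (by decide) 7 (by decide) (by decide) (hG.no (by decide))
  have s73 := step 7 (by decide) 3 (by decide) (by decide) (hG.no (by decide))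
  have s57 := step 5 (by decide) 7 (by decide) (by decide) (hG.no (by decide))
  have s75 := step 7 (by decide) 5 (by decide) (by decide) (hG.no (by decide))
  have hex : 3 ∣ Nat.card S ∨ 5 ∣ Nat.card S ∨ 7 ∣ Nat.card S := by
    by_contra hcon
    push Not at hcon
    apply hns
    refine Cfsg.Agent.S0144.result 2 13 ((Nat.card S).factorization 2) ((Nat.card S).factorization 13)
      Nat.prime_two (by norm_num) ?_
    have hc0 : Nat.card S ≠ 0 := Nat.card_pos.ne'
    have hsup : (Nat.card S).primeFactors ⊆ {2, 13} := by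
      intro r hr
      have hrp := Nat.prime_of_mem_primeFactors hr
      have hrd := Nat.dvd_of_mem_primeFactors hr
      have hrG : r ∣ Nat.card G := by
        refine hrd.trans ((card_subgroup_dvd_card S).trans ?_)
        rw [Subgroup.card_eq_card_quotient_mul_card_subgroup K]
        exact Dvd.intro _ rfl
      have h1 := (hG.prime hrp).1 hrG
      simp only [Finset.mem_insert, Finset.mem_singleton] at h1 ⊢
      rcases h1 with rfl | rfl | rfl | rfl | rfl
      · exact Or.inl rfl
      · exact absurd hrd hcon.1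
      · exact absurd hrd hcon.2.1
      · exact absurd hrd hcon.2.2
      · exact Or.inr rfl
    conv_lhs => rw [← Nat.prod_factorization_pow_eq_self hc0]
    rw [Finsupp.prod_of_support_subset _ (s := {2, 13}) (by rw [Nat.support_factorization]; exact hsup) _
      (fun i _ => pow_zero i), Finset.prod_pair (by decide)]
  intro q hq
  have hq' : q = 3 ∨ q = 5 ∨ q = 7 := by simpa using hq
  have h7 : 7 ∣ Nat.card S := by
    rcases hex with h | h | h
    · exact s37 h
    · exact s57 h
    · exact h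
  rcases hq' with rfl | rfl | rfl
  · exact s73 h7
  · exact s75 h7
  · exact h7

end

/-- The situation: `V` a nontrivial 13-subgroup of `G`, `π` a homomorphism of a subgroup `X` of `N(V)` onto the
nonabelian simple group `S`: odd `r`-subgroups of `S` are cyclic (if the kernel is an `r'`-group), the Sylow
2-subgroups of `S` are dihedral. -/
theorem dihedral_of {G : Type u} [Group G] [Finite G] (hG : Sp G) {V X : Subgroup G} (hV : IsPGroup 13 V)
    (hV1 : V ≠ ⊥) (hXV : X ≤ normalizer (V : Set G)) {S : Type*} [Group S] [Finite S] [IsSimpleGroup S]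
    (hSna : ¬ IsMulCommutative S) (h2 : 2 ∣ Nat.card S) (π : X →* S) (hπ : Function.Surjective π) :
    (∃ (P : Sylow 2 S) (n : ℕ), 2 ≤ n ∧ Nonempty ((P : Subgroup S) ≃* DihedralGroup n)) ∧
      ∀ r : ℕ, r.Prime → r ≠ 2 → r ≠ 13 → ∀ Q : Subgroup S, IsPGroup r Q → IsCyclic Q := by
  constructor
  · have : Fact (Nat.Prime 2) := ⟨Nat.prime_two⟩
    obtain ⟨P⟩ : Nonempty (Sylow 2 X) := inferInstance
    have hPG : IsPGroup 2 ((P : Subgroup X).map X.subtype) := P.isPGroup'.map _
    have hPV : (P : Subgroup X).map X.subtype ≤ normalizer (V : Set G) := (map_subtype_le _).trans hXV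
    have ePG := (P : Subgroup X).equivMapOfInjective X.subtype X.subtype_injective
    have hcoe : ((P.mapSurjective hπ : Sylow 2 S) : Subgroup S) = (P : Subgroup X).map π := Sylow.coe_mapSurjective _ _
    have hncS := Cfsg.Agent.SmallSimple.EvenOrder.not_isCyclic_sylow_two hSna h2 (P.mapSurjective hπ)
    have hnc : ¬ IsCyclic ↥((P : Subgroup X).map π) := by
      rw [← hcoe]
      exact hncS
    have hsurj := MonoidHom.subgroupMap_surjective π (P : Subgroup X)
    have hPnc : ¬ IsCyclic P := fun h => hnc (isCyclic_of_surjective _ hsurj)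
    -- `P` is generalized quaternion
    rcases cyc_or hG Nat.prime_two (by norm_num) hPG hV hV1 hPV with h | ⟨-, m, ⟨e⟩⟩
    · exact absurd (isCyclic_of_injective ePG.toMonoidHom ePG.injective) hPnc
    -- an involution of `P`
    have hPnt : Nontrivial P := by
      by_contra h
      rw [not_nontrivial_iff_subsingleton] at h
      exact hPnc (isCyclic_of_subsingleton)
    have hPd : 2 ∣ Nat.card P := by
      obtain ⟨n, hn⟩ := (IsPGroup.iff_card).1 P.isPGroup'
      have h1 : 1 < Nat.card P := Finite.one_lt_card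
      rw [hn] at h1 ⊢
      exact dvd_pow_self 2 (by rintro rfl; simp at h1)
    obtain ⟨t, ht⟩ := exists_prime_orderOf_dvd_card' 2 hPd
    have ht2 : t * t = 1 := by
      have := pow_orderOf_eq_one t
      rwa [ht, pow_two] at this
    have ht1 : t ≠ 1 := by
      rintro rfl
      rw [orderOf_one] at ht
      omega
    set t' : G := ((t : X) : G) with ht'
    have htt : t' * t' = 1 := congrArg (fun y : P => ((y : X) : G)) ht2
    have ht'1 : t' ≠ 1 := fun h => ht1 (Subtype.ext (Subtype.ext h))
    have htV : ∀ v ∈ V, t' * v * t'⁻¹ = v⁻¹ := by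
      have hn : t' ∈ normalizer (V : Set G) := hXV (t : X).2
      have hmem : ∀ v ∈ V, t' * v * t'⁻¹ ∈ V := fun v hv => (mem_normalizer_iff.1 hn v).1 hv
      let φ : V →* V :=
        { toFun := fun v => ⟨t' * v * t'⁻¹, hmem v v.2⟩
          map_one' := Subtype.ext (by simp)
          map_mul' := fun a b => Subtype.ext (by simp [mul_assoc]) }
      have hinv : t'⁻¹ = t' := inv_eq_of_mul_eq_one_right htt
      have hφ : MonoidHom.FixedPointFree φ := by
        intro v hv
        have h1 : t' * v * t'⁻¹ = v := congrArg Subtype.val hv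
        rw [mul_inv_eq_iff_eq_mul] at h1
        obtain ⟨k, hk⟩ := hV v
        rcases comm_eq_one hG Nat.prime_two (by norm_num) (x := (v : G)) (y := t') ⟨k, congrArg Subtype.val hk⟩
          ⟨1, by rw [pow_one, pow_two, htt]⟩ h1.symm with h | h
        · exact Subtype.ext h
        · exact absurd h ht'1
      have hφ2 : Function.Involutive φ := by
        intro v
        apply Subtype.ext
        change t' * (t' * v * t'⁻¹) * t'⁻¹ = v
        rw [hinv]
        calc t' * (t' * ↑v * t') * t' = (t' * t') * v * (t' * t') := by simp only [mul_assoc]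
          _ = v := by rw [htt, one_mul, mul_one]
      intro v hv
      have := congrFun (hφ.coe_eq_inv_of_involutive hφ2) ⟨v, hv⟩
      exact congrArg Subtype.val this
    -- the centralizer of `V` in `X`
    set C : Subgroup X := (centralizer (V : Set G)).subgroupOf X with hC
    have hmemC : ∀ c : X, c ∈ C ↔ ∀ v ∈ V, v * c = c * v := by
      intro c
      rw [hC, mem_subgroupOf, mem_centralizer_iff]
      rfl
    have hCn : C.Normal := by
      refine ⟨fun c hc x => ?_⟩
      rw [hmemC] at hc ⊢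
      intro v hv
      have hxV := hXV x.2
      have h2 := hc ((x : G)⁻¹ * v * x) (by
        have := (mem_normalizer_iff.1 (inv_mem hxV) v).1 hv
        simpa using this)
      have h3 := congrArg (fun y => (x : G) * y * (x : G)⁻¹) h2
      simpa [mul_assoc] using h3
    have hVnt : Nontrivial V := (Subgroup.nontrivial_iff_ne_bot V).2 hV1
    obtain ⟨v0, hv0⟩ := exists_ne (1 : V)
    have hCp : IsPGroup 13 C := by
      have h1 : Nat.card C = 13 ^ (Nat.card C).primeFactorsList.length := by
        refine Nat.eq_prime_pow_of_unique_prime_dvd Nat.card_pos.ne' ?_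
        intro d hd hdC
        by_contra hd13
        have : Fact d.Prime := ⟨hd⟩
        obtain ⟨c, hc⟩ := exists_prime_orderOf_dvd_card' d hdC
        have hc' : orderOf ((c : X) : G) = d := by rw [Subgroup.orderOf_coe, Subgroup.orderOf_coe, hc]
        obtain ⟨k, hk⟩ := hV v0
        rcases comm_eq_one hG hd hd13 (x := (v0 : G)) (y := ((c : X) : G)) ⟨k, congrArg Subtype.val hk⟩
          ⟨1, by rw [pow_one, ← hc', pow_orderOf_eq_one]⟩ ((hmemC c).1 c.2 v0 v0.2) with h | h
        · exact hv0 (Subtype.ext h)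
        · rw [h, orderOf_one] at hc'
          exact hd.one_lt.ne hc'
      exact IsPGroup.of_card h1
    have hCS : C.map π = ⊥ := by
      have hn : (C.map π).Normal := hCn.map π hπ
      rcases IsSimpleGroup.eq_bot_or_eq_top_of_normal (C.map π) hn with h | h
      · exact h
      · exfalso
        have h1 : IsPGroup 13 (⊤ : Subgroup S) := h ▸ hCp.map π
        have : Fact (Nat.Prime 13) := ⟨by norm_num⟩
        obtain ⟨n, hn⟩ := IsPGroup.iff_card.1 (h1.of_equiv topEquiv)
        rw [hn] at h2
        have := Nat.prime_two.dvd_of_dvd_pow h2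
        norm_num at this
    have hinv : t'⁻¹ = t' := inv_eq_of_mul_eq_one_right htt
    have hcomm : ∀ x : X, π x * π t = π t * π x := by
      intro x
      have h1 : x * t * x⁻¹ * (t : X)⁻¹ ∈ C := by
        rw [hmemC]
        intro v hv
        have hxV := hXV x.2
        have h3 : (x : G)⁻¹ * v * x ∈ V := by
          have := (mem_normalizer_iff.1 (inv_mem hxV) v).1 hv
          simpa using this
        have h4 := htV _ h3
        have h5 := htV v hv
        change v * ((x : G) * t' * (x : G)⁻¹ * t'⁻¹) = ((x : G) * t' * (x : G)⁻¹ * t'⁻¹) * v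
        rw [hinv] at h4 h5 ⊢
        -- `x t' x⁻¹ v⁻¹ = v x t' x⁻¹`, `t' v = v⁻¹ t'`
        have h6 : t' * v = v⁻¹ * t' := by
          have := congrArg (fun y => y * t') h5
          simpa [mul_assoc, htt] using this
        have h7 : (x : G) * t' * (x : G)⁻¹ * v⁻¹ = v * ((x : G) * t' * (x : G)⁻¹) := by
          have h8 : t' * ((x : G)⁻¹ * v * x)⁻¹ = ((x : G)⁻¹ * v * x) * t' := by
            have h9 := htV _ (inv_mem h3)
            rw [hinv, inv_inv] at h9
            have := congrArg (fun y => y * t') h9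
            simpa [mul_assoc, htt] using this
          have := congrArg (fun y => (x : G) * y * (x : G)⁻¹) h8
          simpa [mul_assoc] using this
        calc v * ((x : G) * t' * (x : G)⁻¹ * t') = (v * ((x : G) * t' * (x : G)⁻¹)) * t' := by simp only [mul_assoc]
          _ = ((x : G) * t' * (x : G)⁻¹ * v⁻¹) * t' := by rw [h7]
          _ = (x : G) * t' * (x : G)⁻¹ * (v⁻¹ * t') := by simp only [mul_assoc]
          _ = (x : G) * t' * (x : G)⁻¹ * (t' * v) := by rw [h6]
          _ = _ := by simp only [mul_assoc]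
      have h10 : π (x * t * x⁻¹ * (t : X)⁻¹) = 1 := by
        rw [← Subgroup.mem_bot, ← hCS]
        exact mem_map_of_mem π h1
      rw [map_mul, map_mul, map_mul, map_inv, map_inv, mul_inv_eq_one, mul_inv_eq_iff_eq_mul] at h10
      exact h10
    have hπt : π t = 1 := by
      have h1 : π t ∈ center S := by
        rw [mem_center_iff]
        intro s
        obtain ⟨x, rfl⟩ := hπ s
        exact hcomm x
      rwa [center_simple hSna, Subgroup.mem_bot] at h1
    rcases Cfsg.Agent.H407.Basic.dihedral_of_quotient (ePG.trans e) (π.subgroupMap (P : Subgroup X)) hsurj (by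
      intro h
      apply ht1
      have h1 : t ∈ (π.subgroupMap (P : Subgroup X)).ker := by
        rw [MonoidHom.mem_ker]
        exact Subtype.ext hπt
      rwa [h, Subgroup.mem_bot] at h1) with h | ⟨n, hn, ⟨e'⟩⟩
    · exact absurd h hnc
    · refine ⟨P.mapSurjective hπ, n, hn, ?_⟩
      rw [hcoe]
      exact ⟨e'⟩
  · intro r hr hr2 hr13 Q hQ
    obtain ⟨P, hP, rfl⟩ := Cfsg.Agent.H407.Basic.exists_lift hr π hπ hQ
    have ePG := P.equivMapOfInjective X.subtype X.subtype_injective
    rcases cyc_or hG hr hr13 (hP.map X.subtype) hV hV1 ((map_subtype_le _).trans hXV) with h | ⟨h, -⟩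
    · have := isCyclic_of_injective ePG.toMonoidHom ePG.injective
      exact isCyclic_of_surjective _ (MonoidHom.subgroupMap_surjective π P)
    · exact absurd h hr2

/-! ### `A₇` -/

theorem alt_false (h : ∀ P : Subgroup (alternatingGroup (Fin 7)), IsPGroup 3 P → IsCyclic P) : False := by
  let a : alternatingGroup (Fin 7) := ⟨Equiv.swap 0 1 * Equiv.swap 1 2, by rw [Equiv.Perm.mem_alternatingGroup]; decide⟩
  let b : alternatingGroup (Fin 7) := ⟨Equiv.swap 3 4 * Equiv.swap 4 5, by rw [Equiv.Perm.mem_alternatingGroup]; decide⟩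
  have ha : orderOf a = 3 := orderOf_eq_prime (by decide) (by decide)
  have hb : orderOf b = 3 := orderOf_eq_prime (by decide) (by decide)
  have hab : a * b = b * a := by decide
  have : Fact (Nat.Prime 3) := ⟨Nat.prime_three⟩
  have hA : IsPGroup 3 (zpowers a) := IsPGroup.of_card (n := 1) (by rw [Nat.card_zpowers, ha, pow_one])
  have hB : IsPGroup 3 (zpowers b) := IsPGroup.of_card (n := 1) (by rw [Nat.card_zpowers, hb, pow_one])
  have hn : zpowers a ≤ normalizer ((zpowers b : Subgroup (alternatingGroup (Fin 7))) : Set _) := by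
    rw [zpowers_le]
    refine mem_normalizer_fintype ?_
    rintro _ ⟨k, rfl⟩
    have h1 : Commute a (b ^ k) := (show Commute a b from hab).zpow_right k
    change a * b ^ k * a⁻¹ ∈ zpowers b
    rw [h1.eq, mul_inv_cancel_right]
    exact zpow_mem (mem_zpowers b) k
  have hP := hA.to_sup_of_normal_right' hB hn
  have hc := h _ hP
  have he := Cfsg.Agent.H407.Basic.eq_of_cyclic (A := zpowers a ⊔ zpowers b) le_sup_left le_sup_right
    (by rw [Nat.card_zpowers, Nat.card_zpowers, ha, hb])
  have h1 : b ∈ zpowers a := by rw [he]; exact mem_zpowers b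
  rw [mem_zpowers_iff_mem_range_orderOf, ha] at h1
  revert h1
  decide

/-- **The order of the solvable radical is prime to 13.** -/
theorem not_thirteen_dvd {G : Type u} [Group G] [Finite G] (hG : Sp G) (K : Subgroup G) [K.Normal]
    (hK : Group.IsSolvable K) (S : Subgroup (G ⧸ K)) [S.Normal] [IsSimpleGroup S] (hSna : ¬ IsMulCommutative S)
    (h2 : 2 ∣ Nat.card S) (hD : DihFor S) : ¬ 13 ∣ Nat.card K := by
  intro h
  have : Fact (Nat.Prime 13) := ⟨by norm_num⟩
  have hns : ¬ Group.IsSolvable S := by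
    intro hs
    exact hSna (isMulCommutative_iff.2 (IsSimpleGroup.comm_iff_isSolvable.2 hs))
  have hdS := dvd_S hG K hK h S hns
  obtain ⟨V0⟩ : Nonempty (Sylow 13 K) := inferInstance
  set V : Subgroup G := (V0 : Subgroup K).map K.subtype with hV
  have hVp : IsPGroup 13 V := V0.isPGroup'.map _
  have hV1 : V ≠ ⊥ := by
    intro h1
    rw [hV, Subgroup.map_eq_bot_iff_of_injective _ K.subtype_injective] at h1
    have h3 := V0.dvd_card_of_dvd_card h
    rw [h1, Subgroup.card_bot] at h3
    norm_num at h3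
  have hfrat : normalizer (V : Set G) ⊔ K = ⊤ := Sylow.normalizer_sup_eq_top V0
  set X : Subgroup G := normalizer (V : Set G) ⊓ S.comap (QuotientGroup.mk' K) with hX
  let π : X →* S :=
    { toFun := fun x => ⟨QuotientGroup.mk' K x, (mem_inf.1 x.2).2⟩
      map_one' := Subtype.ext (map_one _)
      map_mul' := fun a b => Subtype.ext (map_mul _ _ _) }
  have hπ : Function.Surjective π := by
    rintro ⟨s, hs⟩
    obtain ⟨g, rfl⟩ := QuotientGroup.mk'_surjective K s
    have hg : g ∈ normalizer (V : Set G) ⊔ K := by rw [hfrat]; trivial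
    rw [← SetLike.mem_coe, Subgroup.mul_normal] at hg
    obtain ⟨n, hn, k, hk, rfl⟩ := hg
    have h1 : QuotientGroup.mk' K (n * k) = QuotientGroup.mk' K n := by
      rw [map_mul, (QuotientGroup.eq_one_iff k).2 hk |> fun h => (show QuotientGroup.mk' K k = 1 from h), mul_one]
    refine ⟨⟨n, mem_inf.2 ⟨hn, ?_⟩⟩, Subtype.ext ?_⟩
    · rw [mem_comap, ← h1]; exact hs
    · exact h1.symm
  obtain ⟨⟨P, n, hn, hP⟩, hcyc⟩ := dihedral_of hG hVp hV1 (inf_le_left : X ≤ _) hSna h2 π hπ
  have hodd : Cfsg.oddCore S = ⊥ := by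
    rcases IsSimpleGroup.eq_bot_or_eq_top_of_normal (Cfsg.oddCore S)
      (Cfsg.Agent.Lib.Cores.pPrimeCore_normal 2) with h | h
    · exact h
    · exfalso
      have h3 : (Nat.card (Cfsg.oddCore S)).Coprime 2 := Cfsg.Agent.Lib.Cores.pPrimeCore_coprime (G := S) 2
      rw [h, Subgroup.card_top] at h3
      have := Nat.eq_one_of_dvd_coprimes h3 h2 dvd_rfl
      norm_num at this
  have e0 : S ≃* S ⧸ Cfsg.oddCore S :=
    (QuotientGroup.quotientBot.symm).trans (QuotientGroup.quotientMulEquivOfEq hodd.symm)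
  rcases hD P n hn hP with ⟨F, _, _, h3, h4, ⟨e⟩⟩ | ⟨⟨e⟩⟩
  · have e1 := e0.trans e
    have hc : Nat.card S = Nat.card (Matrix.ProjectiveSpecialLinearGroup (Fin 2) F) := Nat.card_congr e1.toEquiv
    refine false_of (F := F) h3 h4 ?_ ?_ ?_ ?_ ?_
    · intro r hr hrd
      rw [← hc] at hrd
      have hrG : r ∣ Nat.card G := by
        refine hrd.trans ((card_subgroup_dvd_card S).trans ?_)
        rw [Subgroup.card_eq_card_quotient_mul_card_subgroup K]
        exact Dvd.intro _ rfl
      have := (hG.prime hr).1 hrG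
      simp only [Finset.mem_insert, Finset.mem_singleton] at this
      omega
    · intro hrd
      rw [← hc] at hrd
      have hrG : 11 ∣ Nat.card G := by
        refine hrd.trans ((card_subgroup_dvd_card S).trans ?_)
        rw [Subgroup.card_eq_card_quotient_mul_card_subgroup K]
        exact Dvd.intro _ rfl
      have := (hG.prime (by norm_num)).1 hrG
      exact absurd this (by decide)
    · rw [← hc]; exact hdS 5 (by decide)
    · rw [← hc]; exact hdS 7 (by decide)
    · intro r hr hr2 hr13
      exact cyc_congr e1 (hcyc r hr hr2 hr13)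
  · have e1 := e0.trans e
    exact alt_false (cyc_congr e1 (hcyc 3 (by norm_num) (by norm_num) (by norm_num)))

end Cfsg.Agent.H899.O7.Rad
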