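import Cfsg.Agent.H899.O7.Rad
import Cfsg.Agent.H899.O7.Arith
import Cfsg.Agent.H899.O7.Elim

/-!
# The simple group is `Ω₇(3)` or `PΩ₈⁺(3)` (helper899)
-/

set_option autoImplicit false
set_option linter.unusedSectionVars false

namespace Cfsg.Agent.H899.O7.Red

open Subgroup Cfsg Cfsg.Agent.OrdDiv
open Cfsg.Agent.H407.Radical (DihFor)
open Cfsg.Agent.H363.Frat (NonAdj)

universe u

theorem t2_of {c : ℕ} (h13 : 13 ∣ c) (h11 : ¬ 11 ∣ c)
    (hr : c / 13 % 13 = 2 ∨ c / 13 % 13 = 3 ∨ c / 13 % 13 = 4 ∨ (c / 13 % 13 = 6 ∧ 5 ∣ c) ∨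
      (c / 13 % 13 = 12 ∧ 5 ∣ c))
    (h7 : 7 ∣ c ∨ (¬ 27 ∣ c ∧ ¬ 25 ∣ c)) (h5 : 5 ∣ c ∨ ¬ 49 ∣ c) : Arith.t2 c = true := by
  have hb : ∀ a b : ℕ, (Nat.beq a b = true) ↔ a = b := fun a b => by rw [Nat.beq_eq]
  have hm : ∀ a : ℕ, a ∣ c → c % a = 0 := fun a => Nat.mod_eq_zero_of_dvd
  have hm' : ∀ a : ℕ, ¬ a ∣ c → c % a ≠ 0 := fun a h h1 => h (Nat.dvd_of_mod_eq_zero h1)
  unfold Arith.t2
  simp only [Bool.and_eq_true, Bool.or_eq_true, Bool.not_eq_true', ← Bool.not_eq_true, hb]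
  refine ⟨⟨⟨⟨hm _ h13, hm' _ h11⟩, ?_⟩, ?_⟩, ?_⟩
  · rcases hr with h | h | h | ⟨h, h'⟩ | ⟨h, h'⟩
    · exact Or.inl (Or.inl (Or.inl (Or.inl h)))
    · exact Or.inl (Or.inl (Or.inl (Or.inr h)))
    · exact Or.inl (Or.inl (Or.inr h))
    · exact Or.inl (Or.inr ⟨h, hm _ h'⟩)
    · exact Or.inr ⟨h, hm _ h'⟩
  · rcases h7 with h | ⟨h, h'⟩
    · exact Or.inl (hm _ h)
    · exact Or.inr ⟨hm' _ h, hm' _ h'⟩
  · rcases h5 with h | h
    · exact Or.inl (hm _ h)
    · exact Or.inr (hm' _ h)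

/-- **The simple group, from the classification.** -/
theorem main {G : Type u} [Group G] [Finite G] (hG : Sp G) (K : Subgroup G) [K.Normal]
    (hKs : Group.IsSolvable K) (S : Subgroup (G ⧸ K)) [S.Normal] [IsSimpleGroup S]
    (hSna : ¬ IsMulCommutative S) (h2 : 2 ∣ Nat.card S)
    (hKS : IsKnownSimple' S) (T : OrderTable.{u}) (hD : DihFor S) :
    ¬ 13 ∣ Nat.card K ∧ 13 ∣ Nat.card S ∧ ¬ 169 ∣ Nat.card S ∧
      ∃ (F : Type) (_ : Field F) (_ : Fintype F), Fintype.card F = 3 ∧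
        (Nonempty (S ≃* POmega F (quadFormOdd 3 F)) ∨ Nonempty (S ≃* POmega F (quadFormPlus 4 F))) := by
  have h13K : ¬ 13 ∣ Nat.card K := Rad.not_thirteen_dvd hG K hKs S hSna h2 hD
  have hnaQ := Ker.hnaQ hG K
  have hcG : Nat.card G = Nat.card (G ⧸ K) * Nat.card K := Subgroup.card_eq_card_quotient_mul_card_subgroup K
  have p13 : (13 : ℕ).Prime := by norm_num
  have h13Q : 13 ∣ Nat.card (G ⧸ K) := by
    have h1 := (hG.prime p13).2 (by decide)
    rw [hcG] at h1
    exact ((p13.dvd_mul).1 h1).resolve_right h13K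
  have h13S : 13 ∣ Nat.card S := Ker.thirteen_dvd hnaQ S hSna h13Q
  have hprime : ∀ r : ℕ, r.Prime → r ∣ Nat.card S → r ∈ ({2, 3, 5, 7, 13} : Finset ℕ) := by
    intro r hr hrS
    have h1 : r ∣ Nat.card G := by
      refine (hrS.trans (Subgroup.card_subgroup_dvd_card S)).trans ?_
      exact Subgroup.card_quotient_dvd_card K
    exact (hG.prime hr).1 h1
  have hsm : Cfsg.Agent.H407.Arith.Sm (Nat.card S) := by
    intro r hr hrS
    have h2 := hprime r hr hrS
    simp only [Finset.mem_insert, Finset.mem_singleton] at h2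
    omega
  have h11 : ¬ 11 ∣ Nat.card S := fun h => absurd (hprime 11 (by norm_num) h) (by decide)
  have hna : ¬ ∀ a b : S, a * b = b * a := fun h => hSna (isMulCommutative_iff.2 h)
  have h169 : ¬ 169 ∣ Nat.card S := Arith.no169 T hKS hna hsm h11
  have hnaS : ∀ r : ℕ, r.Prime → r ≠ 13 → NonAdj S 13 r := fun r hr h => (hnaQ r hr h).subgroup S
  have hncyc : ¬ IsCyclic S := fun h => hSna (IsCyclic.isMulCommutative (α := S))
  obtain ⟨W, hW, k, hk12, hk1, hkr, hk6⟩ := Ker.sylow_count hnaS hncyc h13S h169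
  obtain ⟨a, ha⟩ := Ker.card_quot hnaQ S h13S h169
  -- primes not dividing `|S|` divide `|K|`
  have hpK : ∀ p ∈ ({5, 7} : Finset ℕ), ¬ p ∣ Nat.card S → p ∣ Nat.card K := by
    intro p hp hpS
    have hp' : p = 5 ∨ p = 7 := by simpa using hp
    have hpp : p.Prime := by rcases hp' with rfl | rfl <;> norm_num
    have h1 : p ∣ Nat.card G := (hG.prime hpp).2 (by rcases hp' with rfl | rfl <;> decide)
    rw [hcG] at h1
    rcases (hpp.dvd_mul).1 h1 with h | h
    · exfalso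
      have h3 := h.trans ha
      rcases (hpp.dvd_mul).1 h3 with h | h
      · exact hpS h
      · rcases (hpp.dvd_mul).1 h with h | h
        · have h4 := (Nat.prime_dvd_prime_iff_eq hpp p13).1 (hpp.dvd_of_dvd_pow h)
          omega
        · rcases hp' with rfl | rfl <;> norm_num at h
    · exact h
  have h5K : ¬ 5 ∣ Nat.card S → 5 ∣ Nat.card K := hpK 5 (by decide)
  have h7K : ¬ 7 ∣ Nat.card S → 7 ∣ Nat.card K := hpK 7 (by decide)
  have h49 : 5 ∣ Nat.card S ∨ ¬ 49 ∣ Nat.card S := by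
    by_cases h5 : 5 ∣ Nat.card S
    · exact Or.inl h5
    · refine Or.inr fun h => ?_
      have h1 := Ker.cyc_mem hG K h13K (r := 5) (by norm_num) (h5K h5) (t := 7) (by norm_num) (by norm_num)
        (by norm_num) (by decide) S (m := 2) h
      exact absurd h1 (by decide)
  have h27 : 7 ∣ Nat.card S ∨ (¬ 27 ∣ Nat.card S ∧ ¬ 25 ∣ Nat.card S) := by
    by_cases h7 : 7 ∣ Nat.card S
    · exact Or.inl h7
    · refine Or.inr ⟨fun h => ?_, fun h => ?_⟩
      · have h1 := Ker.cyc_mem hG K h13K (r := 7) (by norm_num) (h7K h7) (t := 3) (by norm_num) (by norm_num)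
          (by norm_num) (by decide) S (m := 3) h
        exact absurd h1 (by decide)
      · have h1 := Ker.cyc_mem hG K h13K (r := 7) (by norm_num) (h7K h7) (t := 5) (by norm_num) (by norm_num)
          (by norm_num) (by decide) S (m := 2) h
        exact absurd h1 (by decide)
  have h6 : 6 ∣ k → 5 ∣ Nat.card S := by
    intro h6k
    by_contra h5
    obtain ⟨c, hc, hcW⟩ := hk6 h6k
    have hWm : Nat.card (W.map S.subtype) = 13 := by
      rw [← hW]
      exact (Nat.card_congr (W.equivMapOfInjective S.subtype S.subtype_injective).toEquiv).symm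
    have hc' : orderOf (c : G ⧸ K) = 6 := by rw [Subgroup.orderOf_coe, hc]
    have h1 := Ker.frob_mem hG K h13K (r := 5) (by norm_num) (h5K h5) S h13S (W.map S.subtype)
      (map_subtype_le _) (by
        intro h
        rw [h, Subgroup.card_bot] at hWm
        norm_num at hWm) (by rw [hWm]; norm_num) (c : G ⧸ K) (by
        rintro _ ⟨w, hw, rfl⟩
        exact ⟨c * w * c⁻¹, hcW w hw, rfl⟩) (by
        intro b hb hb1 n hn hnb
        by_contra hn1
        have hno : orderOf n = 13 := by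
          have h2 := orderOf_dvd_natCard (⟨n, hn⟩ : W.map S.subtype)
          rw [Subgroup.orderOf_mk, hWm] at h2
          rcases (Nat.dvd_prime p13).1 h2 with h3 | h3
          · exact absurd (orderOf_eq_one_iff.1 h3) hn1
          · exact h3
        refine Ker.comm_false hnaQ hno hb1 ?_ hnb
        intro h3
        have h4 := orderOf_dvd_natCard (⟨b, hb⟩ : zpowers (c : G ⧸ K))
        rw [Subgroup.orderOf_mk, Nat.card_zpowers, hc'] at h4
        have h5 := h3.trans h4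
        norm_num at h5) (by rw [hc']; norm_num)
    rw [hc'] at h1
    exact absurd h1 (by decide)
  have ht2 : Arith.t2 (Nat.card S) = true := by
    refine t2_of h13S h11 ?_ h27 h49
    rw [hkr]
    have hk : k ∈ Nat.divisors 12 := Nat.mem_divisors.2 ⟨hk12, by norm_num⟩
    rw [show Nat.divisors 12 = {1, 2, 3, 4, 6, 12} by decide +kernel] at hk
    simp only [Finset.mem_insert, Finset.mem_singleton] at hk
    rcases hk with rfl | rfl | rfl | rfl | rfl | rfl
    · exact absurd rfl hk1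
    · exact Or.inl rfl
    · exact Or.inr (Or.inl rfl)
    · exact Or.inr (Or.inr (Or.inl rfl))
    · exact Or.inr (Or.inr (Or.inr (Or.inl ⟨rfl, h6 (by norm_num)⟩)))
    · exact Or.inr (Or.inr (Or.inr (Or.inr ⟨rfl, h6 (by norm_num)⟩)))
  obtain ⟨g, hg, hR⟩ := Arith.main T hKS hna hsm ht2
  refine ⟨h13K, h13S, h169, ?_⟩
  simp only [Arith.surv, List.mem_cons, List.not_mem_nil, or_false] at hg
  rcases hg with rfl | rfl | rfl | rfl | rfl | rfl | rfl
  · exfalso
    obtain ⟨F, _, _, hF, ⟨e⟩⟩ := hR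
    have h5 : ¬ 5 ∣ Nat.card S := by
      have h1 := Cfsg.Agent.H407.PslTwo.card_eq (F := F) (by rw [hF]; decide)
      rw [hF, ← Nat.card_congr e.toEquiv] at h1
      intro h
      have h3 : 5 ∣ 2 * Nat.card S := h.mul_left 2
      rw [h1] at h3
      norm_num at h3
    exact Elim.psl27 hG K h13K S h13S (h5K h5) hF e
  · exfalso
    obtain ⟨F, _, _, hF, ⟨e⟩⟩ := hR
    exact Elim.no_order hG K S (n := 30) (by decide) e (Elts.psp hF)
  · exfalso
    obtain ⟨F, _, _, hF, ⟨e⟩⟩ := hR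
    exact Elim.no_order hG K S (n := 30) (by decide) e (Elts.psu (by rw [hF]; norm_num))
  · obtain ⟨F, _, _, hF, h⟩ := hR
    exact ⟨F, inferInstance, inferInstance, hF, Or.inl h⟩
  · obtain ⟨F, _, _, hF, h⟩ := hR
    exact ⟨F, inferInstance, inferInstance, hF, Or.inr h⟩
  · exfalso
    obtain ⟨F, _, _, hF, ⟨e⟩⟩ := hR
    exact Elim.no_order hG K S (n := 21) (by decide) e (Elim.g2_21 hF)
  · exfalso
    obtain ⟨F, _, _, m, hm, hF, hq, ⟨e⟩⟩ := hR
    have hm1 : m = 1 := by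
      have h1 : (2 : ℕ) ^ 3 = 2 ^ (2 * m + 1) := hq
      have h3 := Nat.pow_right_injective le_rfl h1
      omega
    subst hm1
    have hF' : Fintype.card F = 2 ^ (2 * 1 + 1) := by rw [hF]; norm_num
    refine Elim.sz8 hG K h13K S h13S ?_ h169 hF' e
    rw [Nat.card_congr e.toEquiv, T.sz F 1 hm hF']
    norm_num

end Cfsg.Agent.H899.O7.Red
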